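import Cfsg.Agent.Lib.Linear.Steinberg.Orth

/-!
# The orthogonal groups `Ω` have the required transitivity
-/

set_option autoImplicit false
set_option linter.unusedSectionVars false

namespace Cfsg.Lib.Linear.Steinberg

open Cfsg.Lib.Linear.Orth
open scoped Matrix

variable {ι : Type} [Fintype ι] [DecidableEq ι] {F : Type*} [Field F] [Fintype F]
  {Q : (ι → F) → F} {B : LinearMap.BilinForm F (ι → F)} {C : Space Q B} {m : ℕ}
  (D : Setup (orthPolar C) m)

/-- `Ω` acting. -/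
noncomputable def omegaHom (C : Space Q B) : ↥(Cfsg.Omega F Q) →* (orthPolar C).iso :=
  (orthHom C).comp (Cfsg.Omega F Q).subtype

theorem omegaHom_apply (C : Space Q B) (x : ↥(Cfsg.Omega F Q)) :
    omegaHom C x = orthHom C (x : ↥(Cfsg.isometryGroup F Q)) := rfl

/-- In odd characteristic every unitriangular isometry comes from `Ω`. -/
theorem exists_omega_U (h : Fintype.card F ≠ 2 ∨ Fintype.card ι ≠ 4) (hn : 2 ≤ Fintype.card ι)
    (p : ℕ) [Fact p.Prime] [CharP F p] (hp2 : p ≠ 2) {u : (orthPolar C).iso} (hu : u ∈ D.U) :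
    ∃ x : ↥(Cfsg.Omega F Q), omegaHom C x = u := by
  obtain ⟨g, rfl⟩ := orthHom_surjective C u
  obtain ⟨r, hr⟩ := D.isPGroup_U p ⟨_, hu⟩
  have hg : g ^ p ^ r = 1 := orthHom_injective C (by
    rw [map_pow, map_one]
    exact congrArg Subtype.val hr)
  exact ⟨⟨g, mem_omega_of_pow (C := C) h hn p hp2 hg⟩, rfl⟩

theorem char_two_iff (p : ℕ) [hp : Fact p.Prime] [CharP F p] : (2 : F) = 0 ↔ p = 2 := by
  rw [show (2 : F) = ((2 : ℕ) : F) from Nat.cast_ofNat.symm, CharP.cast_eq_zero_iff F p]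
  exact ⟨fun h => (Nat.prime_dvd_prime_iff_eq hp.out Nat.prime_two).1 h, fun h => h ▸ dvd_rfl⟩

/-- With a non-zero anisotropic part `Ω` is as required. -/
theorem good_aniso (h : Fintype.card F ≠ 2 ∨ Fintype.card ι ≠ 4) (hn : 2 ≤ Fintype.card ι)
    (p : ℕ) [Fact p.Prime] [CharP F p] {z : ι → F} (hz0 : z ≠ 0)
    (hze : ∀ j, B z (D.e j) = 0) (hzf : ∀ j, B z (D.f j) = 0)
    (hfree : ∀ x : ↥(Cfsg.Omega F Q), x ^ p = 1 →
      (∀ j, ((x : ↥(Cfsg.isometryGroup F Q)) : GL ι F).val *ᵥ D.e j = D.e j) →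
      (∀ j, ((x : ↥(Cfsg.isometryGroup F Q)) : GL ι F).val *ᵥ D.f j = D.f j) → x = 1) :
    Good D p (omegaHom C) := by
  have hQz : Q z ≠ 0 := fun h0 => hz0 (D.aniso z hze hzf h0)
  set r := rI C z hQz with hr
  have hrc : orthHom C r • D.c₀ = D.c₀ :=
    smul_c₀_of_scalar D fun j => ⟨1, by rw [hr, orthHom_rI_fix C hQz (hze j), one_smul]⟩
  have hro : orthHom C r • D.o₀ = D.o₀ :=
    smul_o₀_of_scalar D fun j => ⟨1, by rw [hr, orthHom_rI_fix C hQz (hzf j), one_smul]⟩
  -- in characteristic two every isometry is in `Ω` or in its coset of `r`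
  have heven : (2 : F) = 0 → ∀ g, g ∈ Cfsg.Omega F Q ∨ g * r ∈ Cfsg.Omega F Q := by
    intro h2 g
    obtain ⟨δ, hδ⟩ := exists_dickson C h h2
    have hr' : r ∉ Cfsg.Omega F Q := fun hm => by
      have h1 : δ r = 1 := Abelianization.commutator_subset_ker δ hm
      rw [hr, hδ z hQz] at h1
      exact absurd h1 (by decide)
    by_cases hg : g ∈ Cfsg.Omega F Q
    · exact Or.inl hg
    · exact Or.inr ((Subgroup.mul_mem_iff_of_index_two (omega_two C h2 hn h).1).2 ⟨fun h => absurd h hg, fun h => absurd h hr'⟩)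
  refine ⟨fun o ho => ?_, fun x hx he hf => hfree x hx he hf, ?_, Or.inl (movable D hz0 hze hzf)⟩
  · obtain ⟨u, hu, huo⟩ := D.exists_U o ho
    by_cases hp2 : p = 2
    · obtain ⟨g, rfl⟩ := orthHom_surjective C u
      rcases heven ((char_two_iff p).2 hp2) g with hg | hg
      · exact ⟨⟨g, hg⟩, D.U_fix hu, huo⟩
      · refine ⟨⟨g * r, hg⟩, ?_, ?_⟩
        · show orthHom C (g * r) • D.c₀ = D.c₀
          rw [map_mul, mul_smul, hrc, D.U_fix hu]
        · show orthHom C (g * r) • D.o₀ = o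
          rw [map_mul, mul_smul, hro, huo]
    · obtain ⟨x, rfl⟩ := exists_omega_U D h hn p hp2 hu
      exact ⟨x, D.U_fix hu, huo⟩
  · rcases Nat.eq_zero_or_pos m with hm | hm
    · refine ⟨1, Or.inl (Ch.ext (funext fun i => ?_))⟩
      have hi : i = 0 := Fin.ext (by have := i.isLt; simp; omega)
      rw [hi, Ch.bot, Ch.bot]
    obtain ⟨g, hg⟩ := exists_swap D
    by_cases hp2 : p = 2
    · rcases heven ((char_two_iff p).2 hp2) g with hgm | hgm
      · exact ⟨⟨g, hgm⟩, Or.inl hg⟩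
      · exact ⟨⟨g * r, hgm⟩, Or.inl (by
          show orthHom C (g * r) • D.c₀ = _
          rw [map_mul, mul_smul, hrc, hg])⟩
    · obtain ⟨a, s, hs, hx⟩ := exists_adjust_odd D h (fun h2 => hp2 ((char_two_iff p).1 h2)) hn
        ⟨0, hm⟩ z hQz g
      refine ⟨⟨_, hx⟩, Or.inl ?_⟩
      show orthHom C (g * (if a then r else 1) * s) • D.c₀ = _
      rw [map_mul, map_mul, mul_smul, mul_smul, hs]
      cases a
      · simpa using hg
      · simp only [if_pos, hrc, hg]

end Cfsg.Lib.Linear.Steinberg
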