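import Mathlib

/-!
# Reflexive forms with a hyperbolic frame

Common ground for the chamber complexes of the symplectic, unitary and orthogonal polar spaces: a
reflexive sesquilinear form with a norm, a hyperbolic frame with anisotropic complement, and the
height of a vector with respect to the frame.
-/

set_option autoImplicit false

namespace Cfsg.Lib.Linear.Steinberg

/-- A reflexive sesquilinear form together with a norm polarising to a function of it. -/
structure Polar (F V : Type*) [Field F] [AddCommGroup V] [Module F V] where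
  σ : F →+* F
  ε : F
  ε_ne : ε ≠ 0
  β : V → V → F
  N : V → F
  φ : F → F
  μ : F → F
  add_left : ∀ x y z, β (x + y) z = β x z + β y z
  smul_left : ∀ c x y, β (c • x) y = c * β x y
  herm : ∀ x y, β y x = ε * σ (β x y)
  N_add : ∀ x y, N (x + y) = N x + N y + φ (β x y)
  N_smul : ∀ c x, N (c • x) = μ c * N x
  φ_zero : φ 0 = 0
  N_self : ∀ x, N x = 0 → β x x = 0

variable {F V : Type*} [Field F] [AddCommGroup V] [Module F V] (P : Polar F V)

namespace Polar

/-- The form as a linear functional of its first argument. -/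
def βl (y : V) : V →ₗ[F] F where
  toFun x := P.β x y
  map_add' a b := P.add_left a b y
  map_smul' c a := by simp [P.smul_left]

@[simp] theorem βl_apply (x y : V) : P.βl y x = P.β x y := rfl

theorem zero_left (y : V) : P.β 0 y = 0 := (P.βl y).map_zero

theorem sub_left (x x' y : V) : P.β (x - x') y = P.β x y - P.β x' y := (P.βl y).map_sub x x'

theorem sum_left {κ : Type*} (s : Finset κ) (v : κ → V) (y : V) :
    P.β (∑ k ∈ s, v k) y = ∑ k ∈ s, P.β (v k) y := map_sum (P.βl y) v s

theorem zero_comm {x y : V} (h : P.β x y = 0) : P.β y x = 0 := by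
  rw [P.herm, h, map_zero, mul_zero]

theorem add_right (x y z : V) : P.β x (y + z) = P.β x y + P.β x z := by
  rw [P.herm (y + z) x, P.add_left, map_add, mul_add, ← P.herm, ← P.herm]

theorem smul_right (c : F) (x y : V) : P.β x (c • y) = P.σ c * P.β x y := by
  rw [P.herm (c • y) x, P.smul_left, map_mul, mul_left_comm, ← P.herm]

/-- The form as an additive map of its second argument. -/
def βr (x : V) : V →+ F := AddMonoidHom.mk' (fun y => P.β x y) (P.add_right x)

@[simp] theorem βr_apply (x y : V) : P.βr x y = P.β x y := rfl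

theorem zero_right (x : V) : P.β x 0 = 0 := (P.βr x).map_zero

theorem sub_right (x y z : V) : P.β x (y - z) = P.β x y - P.β x z := (P.βr x).map_sub y z

theorem sum_right {κ : Type*} (s : Finset κ) (x : V) (v : κ → V) :
    P.β x (∑ k ∈ s, v k) = ∑ k ∈ s, P.β x (v k) := map_sum (P.βr x) v s

theorem N_zero : P.N 0 = 0 := by
  have h := P.N_add 0 0
  rw [add_zero, P.zero_left, P.φ_zero, add_zero] at h
  linear_combination -h

theorem N_smul_zero (c : F) {x : V} (hx : P.N x = 0) : P.N (c • x) = 0 := by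
  rw [P.N_smul, hx, mul_zero]

/-- Totally singular subspaces. -/
def IsTS (W : Submodule F V) : Prop :=
  (∀ x ∈ W, P.N x = 0) ∧ ∀ x ∈ W, ∀ y ∈ W, P.β x y = 0

theorem IsTS.mono {U W : Submodule F V} (h : P.IsTS W) (hUW : U ≤ W) : P.IsTS U :=
  ⟨fun x hx => h.1 x (hUW hx), fun x hx y hy => h.2 x (hUW hx) y (hUW hy)⟩

theorem isTS_span {s : Set V} (hN : ∀ x ∈ s, P.N x = 0) (hβ : ∀ x ∈ s, ∀ y ∈ s, P.β x y = 0) :
    P.IsTS (Submodule.span F s) := by
  have h2 : ∀ x ∈ Submodule.span F s, ∀ y ∈ Submodule.span F s, P.β x y = 0 := by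
    intro x hx y hy
    induction hx using Submodule.span_induction with
    | mem a ha =>
      induction hy using Submodule.span_induction with
      | mem b hb => exact hβ a ha b hb
      | zero => exact P.zero_right a
      | add b c _ _ i1 i2 => rw [P.add_right, i1, i2, add_zero]
      | smul c b _ i1 => rw [P.smul_right, i1, mul_zero]
    | zero => exact P.zero_left y
    | add b c _ _ i1 i2 => rw [P.add_left, i1, i2, add_zero]
    | smul c b _ i1 => rw [P.smul_left, i1, mul_zero]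
  refine ⟨fun x hx => ?_, h2⟩
  induction hx using Submodule.span_induction with
  | mem a ha => exact hN a ha
  | zero => exact P.N_zero
  | add b c hb hc i1 i2 => rw [P.N_add, i1, i2, h2 b hb c hc, P.φ_zero, add_zero, add_zero]
  | smul c b _ i1 => exact P.N_smul_zero c i1

/-- The group of similarly polarised isometries. -/
def iso : Subgroup (V ≃ₗ[F] V) where
  carrier := {g | (∀ x y, P.β (g x) (g y) = P.β x y) ∧ ∀ x, P.N (g x) = P.N x}
  one_mem' := ⟨fun _ _ => rfl, fun _ => rfl⟩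
  mul_mem' := fun {a b} ha hb => ⟨fun x y => (ha.1 _ _).trans (hb.1 x y),
    fun x => (ha.2 _).trans (hb.2 x)⟩
  inv_mem' := fun {a} ha => by
    have e : ∀ v, a (a⁻¹ v) = v := fun v => a.apply_symm_apply v
    exact ⟨fun x y => by rw [← ha.1, e, e], fun x => by rw [← ha.2, e]⟩

theorem iso_β {g : V ≃ₗ[F] V} (hg : g ∈ P.iso) (x y : V) : P.β (g x) (g y) = P.β x y := hg.1 x y

theorem iso_N {g : V ≃ₗ[F] V} (hg : g ∈ P.iso) (x : V) : P.N (g x) = P.N x := hg.2 x

/-- Hyperbolic families. -/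
structure IsFrame {m : ℕ} (e f : Fin m → V) : Prop where
  ee : ∀ i j, P.β (e i) (e j) = 0
  ff : ∀ i j, P.β (f i) (f j) = 0
  ef : ∀ i j, P.β (e i) (f j) = if i = j then 1 else 0
  Ne : ∀ i, P.N (e i) = 0
  Nf : ∀ i, P.N (f i) = 0

variable {P}

theorem IsFrame.fe {m : ℕ} {e f : Fin m → V} (h : P.IsFrame e f) (i j : Fin m) :
    P.β (f i) (e j) = if i = j then P.ε else 0 := by
  rw [P.herm (e j) (f i), h.ef]
  rcases eq_or_ne i j with rfl | hne
  · simp
  · simp [hne, hne.symm]

/-- The part of a vector perpendicular to a frame. -/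
def IsFrame.anis {m : ℕ} {e f : Fin m → V} (_h : P.IsFrame e f) (x : V) : V :=
  x - ∑ i, P.β x (f i) • e i - ∑ i, (P.ε⁻¹ * P.β x (e i)) • f i

theorem IsFrame.anis_e {m : ℕ} {e f : Fin m → V} (h : P.IsFrame e f) (x : V) (j : Fin m) :
    P.β (h.anis x) (e j) = 0 := by
  simp [IsFrame.anis, P.sub_left, P.sum_left, P.smul_left, h.ee, h.fe]
  rw [mul_right_comm, inv_mul_cancel₀ P.ε_ne, one_mul, sub_self]

theorem IsFrame.anis_f {m : ℕ} {e f : Fin m → V} (h : P.IsFrame e f) (x : V) (j : Fin m) :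
    P.β (h.anis x) (f j) = 0 := by
  simp [IsFrame.anis, P.sub_left, P.sum_left, P.smul_left, h.ff, h.ef]

theorem IsFrame.decomp {m : ℕ} {e f : Fin m → V} (h : P.IsFrame e f) (x : V) :
    x = (∑ i, P.β x (f i) • e i + ∑ i, (P.ε⁻¹ * P.β x (e i)) • f i) + h.anis x := by
  simp only [IsFrame.anis]; abel

end Polar

/-- A polar space with a frame whose perpendicular complement is anisotropic. -/
structure Setup (P : Polar F V) (m : ℕ) where
  e : Fin m → V
  f : Fin m → V
  frame : P.IsFrame e f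
  aniso : ∀ x, (∀ i, P.β x (e i) = 0) → (∀ i, P.β x (f i) = 0) → P.N x = 0 → x = 0

namespace Setup

variable {P} {m : ℕ} (D : Setup P m)

/-- The span of the first `i` vectors `e`. -/
def E (i : ℕ) : Submodule F V := Submodule.span F (D.e '' {j | (j : ℕ) < i})

theorem E_mono {i j : ℕ} (h : i ≤ j) : D.E i ≤ D.E j :=
  Submodule.span_mono (Set.image_mono fun k (hk : (k : ℕ) < i) => lt_of_lt_of_le hk h)

theorem e_mem_E {j : Fin m} {i : ℕ} (h : (j : ℕ) < i) : D.e j ∈ D.E i :=
  Submodule.subset_span ⟨j, h, rfl⟩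

theorem E_zero : D.E 0 = ⊥ := by
  simp [E]

theorem E_βf {i : ℕ} {x : V} (hx : x ∈ D.E i) {j : Fin m} (hj : i ≤ j) : P.β x (D.f j) = 0 := by
  induction hx using Submodule.span_induction with
  | mem a ha =>
    obtain ⟨k, hk, rfl⟩ := ha
    have hne : k ≠ j := fun e => by
      rw [e] at hk; exact absurd hk (not_lt.2 hj)
    rw [D.frame.ef, if_neg hne]
  | zero => exact P.zero_left _
  | add b c _ _ i1 i2 => rw [P.add_left, i1, i2, add_zero]
  | smul c b _ i1 => rw [P.smul_left, i1, mul_zero]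

theorem E_βe {i : ℕ} {x : V} (hx : x ∈ D.E i) (j : Fin m) : P.β x (D.e j) = 0 := by
  induction hx using Submodule.span_induction with
  | mem a ha =>
    obtain ⟨k, -, rfl⟩ := ha
    exact D.frame.ee k j
  | zero => exact P.zero_left _
  | add b c _ _ i1 i2 => rw [P.add_left, i1, i2, add_zero]
  | smul c b _ i1 => rw [P.smul_left, i1, mul_zero]

theorem isTS_E (i : ℕ) : P.IsTS (D.E i) :=
  P.isTS_span (by rintro _ ⟨k, -, rfl⟩; exact D.frame.Ne k)
    (by rintro _ ⟨k, -, rfl⟩ _ ⟨l, -, rfl⟩; exact D.frame.ee k l)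

/-- Combinations of the vectors `e` with coefficients vanishing from `i` on lie in `E i`. -/
theorem sum_mem_E {i : ℕ} (c : Fin m → F) (hc : ∀ j : Fin m, i ≤ j → c j = 0) :
    ∑ j, c j • D.e j ∈ D.E i := by
  refine Submodule.sum_mem _ fun j _ => ?_
  rcases lt_or_ge (j : ℕ) i with h | h
  · exact Submodule.smul_mem _ _ (D.e_mem_E h)
  · rw [hc j h, zero_smul]; exact Submodule.zero_mem _

/-- A singular vector perpendicular to all `e` lies in their span. -/
theorem mem_E_of_perp {x : V} (hN : P.N x = 0) (he : ∀ j, P.β x (D.e j) = 0) {i : ℕ}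
    (hf : ∀ j : Fin m, i ≤ j → P.β x (D.f j) = 0) : x ∈ D.E i := by
  set s := ∑ j, P.β x (D.f j) • D.e j with hs
  have hsE : s ∈ D.E i := D.sum_mem_E _ hf
  have h1 : P.β x s = 0 := by simp [hs, P.sum_right, P.smul_right, he]
  have h2 : P.N (x - s) = 0 := by
    have := P.N_add x (-s)
    rw [← sub_eq_add_neg, hN, (D.isTS_E i).1 _ (Submodule.neg_mem _ hsE)] at this
    rw [this, show P.β x (-s) = 0 by rw [← neg_one_smul F s, P.smul_right, h1, mul_zero], P.φ_zero]
    simp
  have h3 : x - s = 0 := by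
    refine D.aniso _ (fun j => ?_) (fun j => ?_) h2
    · rw [P.sub_left, he, D.E_βe hsE, sub_zero]
    · simp [hs, P.sub_left, P.sum_left, P.smul_left, D.frame.ef]
  rwa [← sub_eq_zero.1 h3] at hsE

/-! ## The height -/

/-- The coordinates, in the order `e 0, …, e (m-1), f (m-1), …, f 0`. -/
def ψ (a : ℕ) : V →ₗ[F] F :=
  if h : a < m then P.βl (D.f ⟨a, h⟩)
  else if h' : a < 2 * m then P.βl (D.e ⟨2 * m - 1 - a, by omega⟩) else 0

theorem ψ_lo {a : ℕ} (h : a < m) (x : V) : D.ψ a x = P.β x (D.f ⟨a, h⟩) := by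
  simp [ψ, h]

theorem ψ_hi (j : Fin m) (x : V) : D.ψ (2 * m - 1 - j) x = P.β x (D.e j) := by
  have h1 : ¬ 2 * m - 1 - (j : ℕ) < m := by omega
  have h2 : 2 * m - 1 - (j : ℕ) < 2 * m := by omega
  simp only [ψ, h1, h2, dif_pos, dif_neg, not_false_eq_true, Polar.βl_apply]
  congr 2
  ext
  show 2 * m - 1 - (2 * m - 1 - (j : ℕ)) = j
  omega

theorem ψ_top {a : ℕ} (h : 2 * m ≤ a) (x : V) : D.ψ a x = 0 := by
  simp [ψ, show ¬ a < m by omega, show ¬ a < 2 * m by omega]

theorem exists_bound (x : V) : ∃ a, ∀ b, a ≤ b → D.ψ b x = 0 := ⟨2 * m, fun _ hb => D.ψ_top hb x⟩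

/-- The height of a vector: one more than the index of its highest non-zero coordinate. -/
noncomputable def ht (x : V) : ℕ := by
  classical exact Nat.find (D.exists_bound x)

theorem ht_spec (x : V) {b : ℕ} (hb : D.ht x ≤ b) : D.ψ b x = 0 := by
  classical exact Nat.find_spec (D.exists_bound x) b hb

theorem ht_le {x : V} {a : ℕ} (h : ∀ b, a ≤ b → D.ψ b x = 0) : D.ht x ≤ a := by
  classical exact Nat.find_le h

theorem ht_le_two (x : V) : D.ht x ≤ 2 * m := D.ht_le fun _ hb => D.ψ_top hb x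

theorem ψ_top_ne {x : V} {a : ℕ} (h : D.ht x = a + 1) : D.ψ a x ≠ 0 := fun h0 => by
  have : D.ht x ≤ a := D.ht_le fun b hb => by
    rcases hb.eq_or_lt with rfl | hb
    · exact h0
    · exact D.ht_spec x (by omega)
  omega

theorem eq_zero_of_ht {x : V} (hN : P.N x = 0) (h : D.ht x = 0) : x = 0 := by
  have h0 : x ∈ D.E 0 := D.mem_E_of_perp hN
    (fun j => by rw [← D.ψ_hi]; exact D.ht_spec x (by omega))
    (fun j _ => by
      have := D.ht_spec x (b := (j : ℕ)) (by omega)
      rwa [D.ψ_lo j.isLt] at this)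
  rwa [E_zero, Submodule.mem_bot] at h0

theorem ht_zero : D.ht 0 = 0 := Nat.le_zero.1 (D.ht_le fun _ _ => map_zero _)

/-- Adding a lower vector keeps the height. -/
theorem ht_add_of_lt {x y : V} (h : D.ht y < D.ht x) : D.ht (x + y) = D.ht x := by
  obtain ⟨a, ha⟩ : ∃ a, D.ht x = a + 1 := ⟨D.ht x - 1, by omega⟩
  refine le_antisymm (D.ht_le fun b hb => ?_) ?_
  · rw [map_add, D.ht_spec x hb, D.ht_spec y (by omega), add_zero]
  · by_contra hlt
    have h0 := D.ht_spec (x + y) (b := a) (by omega)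
    rw [map_add, D.ht_spec y (b := a) (by omega), add_zero] at h0
    exact D.ψ_top_ne ha h0

theorem ht_smul {c : F} (hc : c ≠ 0) (x : V) : D.ht (c • x) = D.ht x := by
  refine le_antisymm (D.ht_le fun b hb => by rw [map_smul, D.ht_spec x hb, smul_zero])
    (D.ht_le fun b hb => ?_)
  have := D.ht_spec (c • x) hb
  rw [map_smul, smul_eq_mul, mul_eq_zero] at this
  exact this.resolve_left hc

/-- Two vectors of equal height combine to a lower one. -/
theorem exists_lower {x y : V} (h : D.ht x = D.ht y) (hpos : 0 < D.ht x) :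
    ∃ c : F, c ≠ 0 ∧ D.ht (x - c • y) < D.ht x := by
  obtain ⟨a, ha⟩ : ∃ a, D.ht x = a + 1 := ⟨D.ht x - 1, by omega⟩
  have hy := D.ψ_top_ne (h.symm.trans ha)
  refine ⟨D.ψ a x / D.ψ a y, div_ne_zero (D.ψ_top_ne ha) hy, ?_⟩
  rw [ha, Nat.lt_succ_iff]
  refine D.ht_le fun b hb => ?_
  rw [map_sub, map_smul, smul_eq_mul]
  rcases hb.eq_or_lt with rfl | hb
  · rw [div_mul_cancel₀ _ hy, sub_self]
  · rw [D.ht_spec x (b := b) (by omega), D.ht_spec y (b := b) (by omega)]; simp

theorem ht_le_m {x : V} (hN : P.N x = 0) {a : ℕ} (ha : a ≤ m) : D.ht x ≤ a ↔ x ∈ D.E a := by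
  refine ⟨fun h => D.mem_E_of_perp hN (fun j => ?_) (fun j hj => ?_), fun h => D.ht_le fun b hb => ?_⟩
  · rw [← D.ψ_hi]; exact D.ht_spec x (by omega)
  · have := D.ht_spec x (b := (j : ℕ)) (by omega)
    rwa [D.ψ_lo j.isLt] at this
  · rcases lt_or_ge b m with hbm | hbm
    · rw [D.ψ_lo hbm]; exact D.E_βf h hb
    · rcases lt_or_ge b (2 * m) with hb2 | hb2
      · rw [show b = 2 * m - 1 - ((⟨2 * m - 1 - b, by omega⟩ : Fin m) : ℕ) from
          (show b = 2 * m - 1 - (2 * m - 1 - b) by omega), D.ψ_hi]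
        exact D.E_βe h _
      · exact D.ψ_top hb2 x

theorem perp_of_ht {x : V} {j : Fin m} (h : D.ht x ≤ 2 * m - 1 - j) : P.β x (D.e j) = 0 := by
  rw [← D.ψ_hi]; exact D.ht_spec x h

end Setup

end Cfsg.Lib.Linear.Steinberg
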