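import Cfsg.Agent.Lib.Linear.Steinberg.Module

/-!
# Groups of isometries with enough unitriangular elements

For a finite group acting by isometries so that the stabiliser of the base chamber is transitive on
the opposite chambers: the Sylow `p`-subgroups of that stabiliser fix only the base chamber in its
orbit, so the number of opposite chambers is the `p`-part of the group order.
-/

set_option autoImplicit false
set_option linter.unusedSectionVars false

namespace Cfsg.Lib.Linear.Steinberg

open Module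

variable {F V : Type*} [Field F] [AddCommGroup V] [Module F V] [Finite V] [FiniteDimensional F V]
  {P : Polar F V} {m : ℕ}

namespace Setup

/-- A second choice for the last vector `f`. -/
def Movable (D : Setup P m) : Prop :=
  ∀ k : Fin m, (k : ℕ) + 1 = m → ∃ w, w ≠ D.f k ∧ P.N w = 0 ∧ P.β w (D.e k) = P.ε ∧
    ∀ j, j ≠ k → P.β w (D.e j) = 0 ∧ P.β w (D.f j) = 0

end Setup

/-- The hypotheses on a group of isometries. -/
structure Good (D : Setup P m) (p : ℕ) {G : Type*} [Group G] (ρ : G →* P.iso) : Prop where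
  trans : ∀ o, D.Opp o → ∃ g, ρ g • D.c₀ = D.c₀ ∧ ρ g • D.o₀ = o
  free : ∀ g, g ^ p = 1 → (∀ j, (ρ g : V ≃ₗ[F] V) (D.e j) = D.e j) →
    (∀ j, (ρ g : V ≃ₗ[F] V) (D.f j) = D.f j) → g = 1
  conn : ∃ g, ρ g • D.c₀ = D.o₀ ∨ ∃ k, D.o₀.Adj k (ρ g • D.c₀) ∧
    ∀ c, D.o₀.Adj k c → c = D.o₀ ∨ c = ρ g • D.c₀
  last : D.Movable ∨ ∀ g, (∀ i : Fin (m + 1), (i : ℕ) < m → (ρ g • D.c₀).W i = D.c₀.W i) →
    ρ g • D.c₀ = D.c₀

namespace Good

variable {D : Setup P m} {p : ℕ} [hp : Fact p.Prime] [CharP F p] {G : Type*} [Group G] [Finite G]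
  {ρ : G →* P.iso} (H : Good D p ρ)

/-- The stabiliser of the base chamber. -/
def borel (_H : Good D p ρ) : Subgroup G := (MulAction.stabilizer P.iso D.c₀).comap ρ

/-- The common stabiliser of the base chamber and the standard opposite one. -/
def torus (H : Good D p ρ) : Subgroup G := H.borel ⊓ (MulAction.stabilizer P.iso D.o₀).comap ρ

theorem mem_borel {g : G} : g ∈ H.borel ↔ ρ g • D.c₀ = D.c₀ := Iff.rfl

theorem mem_torus {g : G} : g ∈ H.torus ↔ ρ g • D.c₀ = D.c₀ ∧ ρ g • D.o₀ = D.o₀ := Iff.rfl

include H in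
/-- An element of `p`-power order fixing the base chamber is triangular. -/
theorem tri {g : G} (hg : ρ g • D.c₀ = D.c₀) {r : ℕ} (hr : g ^ p ^ r = 1) (j : Fin m) :
    (ρ g : V ≃ₗ[F] V) (D.e j) - D.e j ∈ D.E (j : ℕ) := by
  have hmap : ∀ i ≤ m, ∀ x ∈ D.E i, (ρ g : V ≃ₗ[F] V) x ∈ D.E i := fun i hi x hx => by
    have hm := Ch.mem_smul (g := ρ g) (c := D.c₀) (i := (⟨i, Nat.lt_succ_of_le hi⟩ : Fin (m + 1)))
      (x := x) (by rw [D.c₀_W]; exact hx)
    rw [hg, D.c₀_W] at hm
    exact hm
  have hje : D.e j ∈ D.E ((j : ℕ) + 1) := D.e_mem_E (Nat.lt_succ_self _)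
  set a := P.β ((ρ g : V ≃ₗ[F] V) (D.e j)) (D.f j) with ha
  have hy : (ρ g : V ≃ₗ[F] V) (D.e j) - a • D.e j ∈ D.E j := by
    refine D.mem_E_perp (Submodule.sub_mem _ (hmap _ j.isLt _ hje) (Submodule.smul_mem _ _ hje)) j.isLt ?_
    rw [Fin.eta, P.sub_left, P.smul_left, D.frame.ef, if_pos rfl, mul_one, ha, sub_self]
  have hiter : ∀ n : ℕ, (ρ (g ^ n) : V ≃ₗ[F] V) (D.e j) - a ^ n • D.e j ∈ D.E j := by
    intro n
    induction n with
    | zero => simp
    | succ n ih =>
      have e : (ρ (g ^ (n + 1)) : V ≃ₗ[F] V) (D.e j) - a ^ (n + 1) • D.e j =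
          (ρ g : V ≃ₗ[F] V) ((ρ (g ^ n) : V ≃ₗ[F] V) (D.e j) - a ^ n • D.e j) +
            a ^ n • ((ρ g : V ≃ₗ[F] V) (D.e j) - a • D.e j) := by
        rw [pow_succ' g n, map_mul, map_sub, map_smul, smul_sub, smul_smul, ← pow_succ]
        show (ρ g : V ≃ₗ[F] V) ((ρ (g ^ n) : V ≃ₗ[F] V) (D.e j)) - _ = _
        abel
      rw [e]
      exact Submodule.add_mem _ (hmap _ (le_of_lt j.isLt) _ ih) (Submodule.smul_mem _ _ hy)
  have h1 := hiter (p ^ r)
  rw [hr, map_one] at h1
  have h2 : P.β (D.e j - a ^ p ^ r • D.e j) (D.f j) = 0 := D.E_βf h1 le_rfl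
  rw [P.sub_left, P.smul_left, D.frame.ef, if_pos rfl, mul_one] at h2
  have h3 : (a - 1) ^ p ^ r = 0 := by
    rw [sub_pow_char_pow, one_pow, ← sub_eq_zero.1 h2, sub_self]
  rw [show a = 1 from sub_eq_zero.1 (eq_zero_of_pow_eq_zero h3), one_smul] at hy
  exact hy

include H in
theorem eq_one_of_torus {g : G} (hg : g ∈ H.torus) (hgp : g ^ p = 1) : g = 1 := by
  have hge := D.fix_e (H.tri hg.1 (r := 1) (by rwa [pow_one])) hg.2
  exact H.free g hgp hge (D.fix_f hge hg.2)

include H in
theorem not_dvd_torus : ¬ p ∣ Nat.card H.torus := fun h => by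
  obtain ⟨x, hx⟩ := exists_prime_orderOf_dvd_card' p h
  have h1 : (x : G) = 1 := H.eq_one_of_torus x.2 (by
    have h2 := pow_orderOf_eq_one (x : G)
    rwa [Subgroup.orderOf_coe, hx] at h2)
  rw [orderOf_eq_one_iff.2 (Subtype.ext h1)] at hx
  exact hp.out.ne_one hx.symm

include H in
theorem card_borel : Nat.card H.borel = Nat.card {o : Ch P m // D.Opp o} * Nat.card H.torus := by
  letI := MulAction.compHom (Ch P m) (ρ.comp H.borel.subtype)
  have hsmul : ∀ (b : H.borel) (c : Ch P m), b • c = ρ (b : G) • c := fun _ _ => rfl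
  have horb : MulAction.orbit H.borel D.o₀ = {o | D.Opp o} := by
    ext o
    refine ⟨?_, fun ho => ?_⟩
    · rintro ⟨b, rfl⟩
      exact D.opp_smul (g := ρ (b : G)) b.2 D.opp_o₀
    · obtain ⟨g, h1, h2⟩ := H.trans o ho
      exact ⟨⟨g, h1⟩, h2⟩
  haveI := Fintype.ofFinite (MulAction.orbit H.borel D.o₀)
  haveI := Fintype.ofFinite H.borel
  haveI := Fintype.ofFinite (MulAction.stabilizer H.borel D.o₀)
  have h := MulAction.card_orbit_mul_card_stabilizer_eq_card_group H.borel D.o₀
  rw [← Nat.card_eq_fintype_card, ← Nat.card_eq_fintype_card, ← Nat.card_eq_fintype_card] at h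
  rw [← h]
  congr 1
  · exact Nat.card_congr (Equiv.setCongr horb)
  · exact Nat.card_congr
      { toFun := fun b => ⟨((b : H.borel) : G), (b : H.borel).2, b.2⟩
        invFun := fun t => ⟨⟨(t : G), t.2.1⟩, t.2.2⟩
        left_inv := fun _ => rfl
        right_inv := fun _ => rfl }

include H in
theorem exists_card_opp : ∃ N, Nat.card {o : Ch P m // D.Opp o} = p ^ N := by
  rw [← D.card_U]
  exact IsPGroup.iff_card.1 (D.isPGroup_U p)

/-- A Sylow subgroup of the stabiliser of the base chamber, transitive on the opposite chambers. -/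
theorem exists_unip : ∃ Q : Subgroup G, IsPGroup p Q ∧ Q ≤ H.borel ∧
    ∀ o, D.Opp o → ∃ x ∈ Q, ρ x • D.o₀ = o := by
  obtain ⟨Q⟩ := (inferInstance : Nonempty (Sylow p H.borel))
  obtain ⟨N, hN⟩ := H.exists_card_opp
  have hQ : Nat.card (Q : Subgroup H.borel) = Nat.card {o : Ch P m // D.Opp o} := by
    rw [Q.card_eq_multiplicity, H.card_borel, hN, Nat.factorization_mul (pow_ne_zero _ hp.out.ne_zero)
      Nat.card_pos.ne', Finsupp.add_apply, hp.out.factorization_pow, Finsupp.single_eq_same,
      Nat.factorization_eq_zero_of_not_dvd H.not_dvd_torus, add_zero]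
  refine ⟨(Q : Subgroup H.borel).map H.borel.subtype, Q.2.map _, ?_, fun o ho => ?_⟩
  · rintro _ ⟨x, -, rfl⟩; exact x.2
  · let T : ↥(Q : Subgroup H.borel) → {o : Ch P m // D.Opp o} :=
      fun x => ⟨ρ ((x : H.borel) : G) • D.o₀, D.opp_smul (x : H.borel).2 D.opp_o₀⟩
    haveI := Fintype.ofFinite ↥(Q : Subgroup H.borel)
    haveI := Fintype.ofFinite {o : Ch P m // D.Opp o}
    have hinj : Function.Injective T := fun a b hab => by
      have hfix : ρ (((b⁻¹ * a : ↥(Q : Subgroup H.borel)) : H.borel) : G) • D.o₀ = D.o₀ := by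
        have e : ρ ((a : H.borel) : G) • D.o₀ = ρ ((b : H.borel) : G) • D.o₀ := congrArg Subtype.val hab
        simp only [Subgroup.coe_mul, Subgroup.coe_inv, map_mul, map_inv, mul_smul]
        rw [e, inv_smul_smul]
      set y : ↥(Q : Subgroup H.borel) := b⁻¹ * a with hy
      obtain ⟨k, hk⟩ := IsPGroup.iff_orderOf.1 Q.2 y
      have hyT : ((y : H.borel) : G) ∈ H.torus := ⟨(y : H.borel).2, hfix⟩
      have hd : orderOf (⟨_, hyT⟩ : H.torus) ∣ Nat.card H.torus := orderOf_dvd_natCard _
      rw [Subgroup.orderOf_mk, Subgroup.orderOf_coe, Subgroup.orderOf_coe, hk] at hd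
      have hk0 : k = 0 := by
        by_contra h0
        exact H.not_dvd_torus ((dvd_pow_self p h0).trans hd)
      rw [hk0, pow_zero, orderOf_eq_one_iff] at hk
      exact (inv_mul_eq_one.1 hk).symm
    have hbij : Function.Bijective T := (Fintype.bijective_iff_injective_and_card T).2
      ⟨hinj, by rw [← Nat.card_eq_fintype_card, ← Nat.card_eq_fintype_card, hQ]⟩
    obtain ⟨x, hx⟩ := hbij.2 ⟨o, ho⟩
    exact ⟨_, ⟨(x : H.borel), x.2, rfl⟩, congrArg Subtype.val hx⟩

variable {Q : Subgroup G} (hQp : IsPGroup p Q) (hQB : Q ≤ H.borel)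
  (hQt : ∀ o, D.Opp o → ∃ x ∈ Q, ρ x • D.o₀ = o)

include H hQp hQB hQt in
/-- Every adapted frame comes from the unipotent group. -/
theorem exists_mem_frame {e' f' : Fin m → V} (h : P.IsFrame e' f')
    (he : ∀ j : Fin m, e' j - D.e j ∈ D.E (j : ℕ)) :
    ∃ x ∈ Q, (∀ j, (ρ x : V ≃ₗ[F] V) (D.e j) = e' j) ∧ ∀ j, (ρ x : V ≃ₗ[F] V) (D.f j) = f' j := by
  have he1 : ∀ j : Fin m, e' j ∈ D.E ((j : ℕ) + 1) := fun j => by
    have := Submodule.add_mem _ (D.E_mono (Nat.le_succ _) (he j)) (D.e_mem_E (Nat.lt_succ_self _))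
    rwa [sub_add_cancel] at this
  obtain ⟨g, hge, hgf, hgx⟩ := D.exists_iso h fun j => D.E_mono j.isLt (he1 j)
  have hgU : g ∈ D.U := ⟨fun j => by rw [hge]; exact he j, hgx⟩
  obtain ⟨x, hx, hxo⟩ := hQt (g • D.o₀) (D.opp_smul (D.U_fix hgU) D.opp_o₀)
  obtain ⟨r, hr⟩ : ∃ r, x ^ p ^ r = 1 := by
    obtain ⟨r, hr⟩ := hQp ⟨x, hx⟩
    exact ⟨r, congrArg Subtype.val hr⟩
  have htri := H.tri (hQB hx) hr
  set y := g⁻¹ * ρ x with hy
  have hyo : y • D.o₀ = D.o₀ := by rw [hy, mul_smul, hxo, inv_smul_smul]
  have hgy : ∀ v, (g : V ≃ₗ[F] V) ((y : V ≃ₗ[F] V) v) = (ρ x : V ≃ₗ[F] V) v := fun v =>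
    (g : V ≃ₗ[F] V).apply_symm_apply _
  have hye := D.fix_e (g := y) (fun j => by
    have h1 : (g : V ≃ₗ[F] V) ((y : V ≃ₗ[F] V) (D.e j) - D.e j) ∈ D.E j := by
      rw [map_sub, hgy, hge]
      have := Submodule.sub_mem _ (htri j) (he j)
      rwa [sub_sub_sub_cancel_right] at this
    have h2 := D.map_E_le (D.U.inv_mem hgU).1 _ h1
    rwa [show ((g⁻¹ : P.iso) : V ≃ₗ[F] V) ((g : V ≃ₗ[F] V) ((y : V ≃ₗ[F] V) (D.e j) - D.e j)) = _ from
      (g : V ≃ₗ[F] V).symm_apply_apply _] at h2) hyo
  refine ⟨x, hx, fun j => ?_, fun j => ?_⟩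
  · rw [← hgy, hye, hge]
  · rw [← hgy, D.fix_f hye hyo, hgf]

include H hQp hQB hQt in
theorem fixed_eq {g : G} (hfix : ∀ x ∈ Q, ρ x • (ρ g • D.c₀) = ρ g • D.c₀) : ρ g • D.c₀ = D.c₀ := by
  set c := ρ g • D.c₀ with hc
  have hframe := @exists_mem_frame _ _ _ _ _ _ _ _ _ D p _ _ G _ _ ρ H Q hQp hQB hQt
  suffices hall : ∀ i : Fin (m + 1), (i : ℕ) < m ∨ D.Movable → c.W i = D.c₀.W i by
    rcases H.last with hM | hlast
    · exact Ch.ext (funext fun i => hall i (Or.inr hM))
    · exact hlast g fun i hi => hall i (Or.inl hi)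
  intro i
  induction i using Fin.induction with
  | zero => intro _; rw [c.bot, D.c₀.bot]
  | succ k ih =>
    intro hcase
    have hk1 : (k.castSucc : ℕ) < m := k.isLt
    have hE : c.W k.castSucc = D.E (k : ℕ) := (ih (Or.inl hk1)).trans (D.c₀_W _)
    rw [D.c₀_W, Fin.val_succ]
    by_contra hne
    obtain ⟨w, hw, hwk⟩ := c.exists_new k
    have hwN : P.N w = 0 := (c.ts _).1 w hw
    have hwe : ∀ j : Fin m, (j : ℕ) < k → P.β w (D.e j) = 0 := fun j hj =>
      (c.ts k.succ).2 w hw _ (c.step_le k (by rw [hE]; exact D.e_mem_E hj))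
    have hline : ∀ x ∈ Q, ∃ l : F, ∃ u ∈ D.E (k : ℕ), (ρ x : V ≃ₗ[F] V) w = l • w + u := by
      intro x hx
      have h1 : (ρ x : V ≃ₗ[F] V) w ∈ c.W k.succ := by
        have hm := Ch.mem_smul (g := ρ x) hw
        rwa [hfix x hx] at hm
      rw [c.span_new hw hwk, hE, Submodule.mem_sup] at h1
      obtain ⟨u, hu, z, hz, huz⟩ := h1
      obtain ⟨l, rfl⟩ := Submodule.mem_span_singleton.1 hz
      exact ⟨l, u, hu, by rw [← huz, add_comm]⟩
    -- a frame moved by the unipotent group keeps the pairings of the line of `w`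
    have pair : ∀ {e' f' : Fin m → V}, P.IsFrame e' f' →
        (∀ j : Fin m, e' j - D.e j ∈ D.E (j : ℕ)) → ∃ l : F, ∃ u ∈ D.E (k : ℕ),
          (∀ j, l * P.β w (e' j) + P.β u (e' j) = P.β w (D.e j)) ∧
          ∀ j, l * P.β w (f' j) + P.β u (f' j) = P.β w (D.f j) := by
      intro e' f' h he
      obtain ⟨x, hx, hxe, hxf⟩ := hframe h he
      obtain ⟨l, u, hu, hlu⟩ := hline x hx
      refine ⟨l, u, hu, fun j => ?_, fun j => ?_⟩
      · rw [← P.iso_β (ρ x).2 w (D.e j), hlu, hxe, P.add_left, P.smul_left]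
      · rw [← P.iso_β (ρ x).2 w (D.f j), hlu, hxf, P.add_left, P.smul_left]
    by_cases hperp : ∀ j, P.β w (D.e j) = 0
    · -- `w` lies in the span of `e`
      obtain ⟨l, hkl, hl⟩ : ∃ l : Fin m, (k : ℕ) < l ∧ P.β w (D.f l) ≠ 0 := by
        by_contra hno
        push Not at hno
        have hwE : w ∈ D.E ((k : ℕ) + 1) := D.mem_E_of_perp hwN hperp fun j hj => hno j hj
        refine hne (Submodule.eq_of_le_of_finrank_eq ?_ (by rw [c.rk, D.finrank_E]; rfl))
        rw [c.span_new hw hwk, hE]
        exact sup_le (D.E_mono (Nat.le_succ _)) ((Submodule.span_singleton_le_iff_mem _ _).2 hwE)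
      obtain ⟨f', hf'⟩ : ∃ f' : Fin m → V, f' = fun j => if j = k then D.f k + D.f l else D.f j := ⟨_, rfl⟩
      obtain ⟨e', he'⟩ : ∃ e' : Fin m → V, e' = fun j => if j = l then D.e l - D.e k else D.e j := ⟨_, rfl⟩
      have hkl' : k ≠ l := fun e => by rw [e] at hkl; exact lt_irrefl _ hkl
      have hfr : P.IsFrame e' f' := by
        refine ⟨fun a b => ?_, fun a b => ?_, fun a b => ?_, fun a => ?_, fun a => ?_⟩
        · simp only [he']; split_ifs <;> simp [P.sub_left, P.sub_right, D.frame.ee]
        · simp only [hf']; split_ifs <;> simp [P.add_left, P.add_right, D.frame.ff]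
        · simp only [he', hf']
          split_ifs <;> simp [P.sub_left, P.add_right, D.frame.ef] <;> grind
        · simp only [he']
          split_ifs
          · exact (D.isTS_E m).1 _ (Submodule.sub_mem _ (D.e_mem_E l.isLt) (D.e_mem_E k.isLt))
          · exact D.frame.Ne a
        · simp only [hf']
          split_ifs
          · rw [P.N_add, D.frame.Nf, D.frame.Nf, D.frame.ff, P.φ_zero, add_zero, add_zero]
          · exact D.frame.Nf a
      obtain ⟨s, u, hu, hse, hsf⟩ := pair hfr fun j => by
        simp only [he']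
        split_ifs with h
        · rw [h]; simpa using Submodule.neg_mem _ (D.e_mem_E hkl)
        · simp
      have h1 := hsf l
      simp only [hf', if_neg hkl'.symm, D.E_βf hu (le_of_lt hkl), add_zero] at h1
      have hs1 : s = 1 := by
        have : (s - 1) * P.β w (D.f l) = 0 := by linear_combination h1
        exact sub_eq_zero.1 ((mul_eq_zero.1 this).resolve_right hl)
      have h2 := hsf k
      simp only [hf', if_pos, P.add_right, D.E_βf hu le_rfl, D.E_βf hu (le_of_lt hkl), hs1] at h2
      exact hl (by linear_combination h2)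
    · push Not at hperp
      classical
      obtain ⟨l, hl, hmin⟩ : ∃ l : Fin m, P.β w (D.e l) ≠ 0 ∧ ∀ j : Fin m, (j : ℕ) < l → P.β w (D.e j) = 0 := by
        have hS : (Finset.univ.filter fun j : Fin m => P.β w (D.e j) ≠ 0).Nonempty :=
          ⟨_, Finset.mem_filter.2 ⟨Finset.mem_univ _, hperp.choose_spec⟩⟩
        refine ⟨_, (Finset.mem_filter.1 (Finset.min'_mem _ hS)).2, fun j hj => ?_⟩
        by_contra h0
        exact absurd (Finset.min'_le _ j (Finset.mem_filter.2 ⟨Finset.mem_univ _, h0⟩)) (not_le.2 hj)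
      have hkl : (k : ℕ) ≤ l := not_lt.1 fun h => hl (hwe l h)
      rcases Nat.lt_or_ge ((l : ℕ) + 1) m with hlm | hlm
      · set n : Fin m := ⟨(l : ℕ) + 1, hlm⟩ with hn
        have hln : l ≠ n := fun e => by simp [hn, Fin.ext_iff] at e
        obtain ⟨f', hf'⟩ : ∃ f' : Fin m → V, f' = fun j => if j = l then D.f l + D.f n else D.f j := ⟨_, rfl⟩
        obtain ⟨e', he'⟩ : ∃ e' : Fin m → V, e' = fun j => if j = n then D.e n - D.e l else D.e j := ⟨_, rfl⟩
        have hfr : P.IsFrame e' f' := by
          refine ⟨fun a b => ?_, fun a b => ?_, fun a b => ?_, fun a => ?_, fun a => ?_⟩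
          · simp only [he']; split_ifs <;> simp [P.sub_left, P.sub_right, D.frame.ee]
          · simp only [hf']; split_ifs <;> simp [P.add_left, P.add_right, D.frame.ff]
          · simp only [he', hf']
            split_ifs <;> simp [P.sub_left, P.add_right, D.frame.ef] <;> grind
          · simp only [he']
            split_ifs
            · exact (D.isTS_E m).1 _ (Submodule.sub_mem _ (D.e_mem_E n.isLt) (D.e_mem_E l.isLt))
            · exact D.frame.Ne a
          · simp only [hf']
            split_ifs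
            · rw [P.N_add, D.frame.Nf, D.frame.Nf, D.frame.ff, P.φ_zero, add_zero, add_zero]
            · exact D.frame.Nf a
        obtain ⟨s, u, hu, hse, hsf⟩ := pair hfr fun j => by
          simp only [he']
          split_ifs with h
          · rw [h]; simpa using Submodule.neg_mem _ (D.e_mem_E (i := (n : ℕ)) (j := l) (Nat.lt_succ_self _))
          · simp
        have h1 := hse l
        simp only [he', if_neg hln, D.E_βe hu, add_zero] at h1
        have hs1 : s = 1 := by
          have : (s - 1) * P.β w (D.e l) = 0 := by linear_combination h1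
          exact sub_eq_zero.1 ((mul_eq_zero.1 this).resolve_right hl)
        have h2 := hse n
        simp only [he', if_pos, P.sub_right, D.E_βe hu, hs1] at h2
        exact hl (by linear_combination -h2)
      · rcases hkl.lt_or_eq with hkl | hkl
        · have hkl' : k ≠ l := fun e => by rw [e] at hkl; exact lt_irrefl _ hkl
          obtain ⟨f', hf'⟩ : ∃ f' : Fin m → V, f' = fun j => if j = k then D.f k + D.e l else
              if j = l then D.f l - P.ε • D.e k else D.f j := ⟨_, rfl⟩
          have hεσ := D.εσ_one l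
          have hfr : P.IsFrame D.e f' := by
            refine ⟨D.frame.ee, fun a b => ?_, fun a b => ?_, D.frame.Ne, fun a => ?_⟩
            · simp only [hf']
              split_ifs <;> simp [P.add_left, P.add_right, P.sub_left, P.sub_right, P.smul_left,
                P.smul_right, D.frame.ee, D.frame.ef, D.frame.fe, D.frame.ff] <;> grind
            · simp only [hf']
              split_ifs <;> simp [P.add_right, P.sub_right, P.smul_right, D.frame.ee, D.frame.ef] <;> grind
            · simp only [hf']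
              split_ifs
              · rw [P.N_add, D.frame.Nf, D.frame.Ne, D.frame.fe, if_neg hkl', P.φ_zero, add_zero, add_zero]
              · rw [sub_eq_add_neg, ← neg_smul, P.N_add, D.frame.Nf, P.N_smul, D.frame.Ne, P.smul_right,
                  D.frame.fe, if_neg hkl'.symm, mul_zero, mul_zero, P.φ_zero, add_zero, add_zero]
              · exact D.frame.Nf a
          obtain ⟨s, u, hu, hse, hsf⟩ := pair hfr fun j => by simp
          have h1 := hse l
          simp only [D.E_βe hu, add_zero] at h1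
          have hs1 : s = 1 := by
            have : (s - 1) * P.β w (D.e l) = 0 := by linear_combination h1
            exact sub_eq_zero.1 ((mul_eq_zero.1 this).resolve_right hl)
          have h2 := hsf k
          simp only [hf', if_pos, P.add_right, D.E_βf hu le_rfl, D.E_βe hu, hs1] at h2
          exact hl (by linear_combination h2)
        · obtain rfl : k = l := Fin.ext hkl
          rcases hcase with hlast | hM
          · simp at hlast; omega
          obtain ⟨z, hzne, hzN, hze, hzperp⟩ := hM k (by omega)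
          have hothers : ∀ j : Fin m, j ≠ k → (j : ℕ) < k := fun j hj => by
            have : (j : ℕ) ≠ k := fun e => hj (Fin.ext e)
            omega
          -- moving `f k` to a singular vector `y` shows that the two lie in the same member of the flag
          have move : ∀ y : V, P.N y = 0 → P.β y (D.e k) = P.ε →
              (∀ j, j ≠ k → P.β y (D.e j) = 0 ∧ P.β y (D.f j) = 0) →
              (y ∈ c.W k.succ ↔ D.f k ∈ c.W k.succ) := by
            intro y hyN hye hy
            obtain ⟨f', hf'⟩ : ∃ f' : Fin m → V, f' = fun j => if j = k then y else D.f j := ⟨_, rfl⟩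
            have hey : P.β (D.e k) y = 1 := by rw [P.herm y (D.e k), hye, D.εσ_one k]
            have hfr : P.IsFrame D.e f' := by
              refine ⟨D.frame.ee, fun a b => ?_, fun a b => ?_, D.frame.Ne, fun a => ?_⟩
              · simp only [hf']
                split_ifs with ha hb hb
                · exact P.N_self y hyN
                · exact (hy b hb).2
                · exact P.zero_comm (hy a ha).2
                · exact D.frame.ff a b
              · simp only [hf']
                split_ifs with hb hab hab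
                · rw [hab, hb]; exact hey
                · exact P.zero_comm (hy a (fun e => hab (e.trans hb.symm))).1
                · rw [D.frame.ef, if_pos hab]
                · rw [D.frame.ef, if_neg hab]
              · simp only [hf']; split_ifs
                exacts [hyN, D.frame.Nf a]
            obtain ⟨x, hx, -, hxf⟩ := hframe hfr fun j => by simp
            have hxy : (ρ x : V ≃ₗ[F] V) (D.f k) = y := by rw [hxf, hf']; exact if_pos rfl
            constructor
            · intro hmem
              rw [← hfix x hx] at hmem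
              obtain ⟨v, hv, hvy⟩ := hmem
              rwa [show v = D.f k from (ρ x : V ≃ₗ[F] V).injective (hvy.trans hxy.symm)] at hv
            · intro hmem
              rw [← hfix x hx, ← hxy]
              exact Ch.mem_smul hmem
          -- the normalised generator
          set w1 := (P.ε / P.β w (D.e k)) • (w - ∑ j ∈ Finset.univ.erase k, P.β w (D.f j) • D.e j) with hw1
          have hsum : ∑ j ∈ Finset.univ.erase k, P.β w (D.f j) • D.e j ∈ D.E (k : ℕ) :=
            Submodule.sum_mem _ fun j hj => Submodule.smul_mem _ _ (D.e_mem_E (hothers j (Finset.ne_of_mem_erase hj)))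
          have hw1mem : w1 ∈ c.W k.succ :=
            Submodule.smul_mem _ _ (Submodule.sub_mem _ hw (c.step_le k (hE.symm ▸ hsum)))
          have hf1 : D.f k ∈ c.W k.succ := (move w1 ((c.ts _).1 _ hw1mem)
            (by rw [hw1, P.smul_left, P.sub_left, D.E_βe hsum, sub_zero, div_mul_cancel₀ _ hl])
            fun j hj => ⟨by rw [hw1, P.smul_left, P.sub_left, D.E_βe hsum, hwe j (hothers j hj)]; simp,
              by rw [hw1, P.smul_left, P.sub_left, P.sum_left, Finset.sum_eq_single j
                (fun a _ ha => by rw [P.smul_left, D.frame.ef, if_neg ha, mul_zero])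
                (fun h => absurd (Finset.mem_erase.2 ⟨hj, Finset.mem_univ j⟩) h),
                P.smul_left, D.frame.ef, if_pos rfl]; simp⟩).1 hw1mem
          have hz1 := (move z hzN hze hzperp).2 hf1
          have hfk : D.f k ∉ c.W k.castSucc := fun h => by
            rw [hE] at h
            have := D.E_βe h k
            rw [D.frame.fe, if_pos rfl] at this
            exact P.ε_ne this
          rw [c.span_new hf1 hfk, hE, Submodule.mem_sup] at hz1
          obtain ⟨u, hu, v, hv, huv⟩ := hz1
          obtain ⟨a, rfl⟩ := Submodule.mem_span_singleton.1 hv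
          have ha1 : a = 1 := by
            have h3 := congrArg (P.βl (D.e k)) huv
            simp only [map_add, map_smul, Polar.βl_apply, D.E_βe hu, zero_add, D.frame.fe, if_pos, hze,
              smul_eq_mul] at h3
            exact mul_right_cancel₀ P.ε_ne (h3.trans (one_mul _).symm)
          have hu0 : u ∈ D.E 0 := D.mem_E_of_perp ((D.isTS_E _).1 u hu) (D.E_βe hu) fun j _ => by
            rcases eq_or_ne j k with rfl | hj
            · exact D.E_βf hu le_rfl
            · have h3 := congrArg (P.βl (D.f j)) huv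
              simpa [P.add_left, P.smul_left, D.frame.ff, (hzperp j hj).2] using h3
          rw [D.E_zero, Submodule.mem_bot] at hu0
          rw [hu0, ha1, zero_add, one_smul] at huv
          exact hzne huv.symm

include H in
theorem index_borel_coprime : ¬ p ∣ H.borel.index := by
  obtain ⟨Q, hQp, hQB, hQt⟩ := H.exists_unip
  letI := MulAction.compHom (Ch P m) ρ
  haveI := Fintype.ofFinite (MulAction.orbit G D.c₀)
  have hidx : H.borel.index = Nat.card (MulAction.orbit G D.c₀) := by
    rw [Nat.card_congr (MulAction.orbitEquivQuotientStabilizer G D.c₀)]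
    rfl
  have hmod := hQp.card_modEq_card_fixedPoints (MulAction.orbit G D.c₀)
  have hone : Nat.card (MulAction.fixedPoints Q (MulAction.orbit G D.c₀)) = 1 := by
    rw [Nat.card_eq_one_iff_unique]
    refine ⟨⟨fun a b => ?_⟩, ⟨⟨⟨D.c₀, MulAction.mem_orbit_self _⟩, fun x => Subtype.ext (hQB x.2)⟩⟩⟩
    have key : ∀ a : MulAction.fixedPoints Q (MulAction.orbit G D.c₀), (a.1 : Ch P m) = D.c₀ := by
      rintro ⟨⟨_, g, rfl⟩, ha⟩
      exact H.fixed_eq hQp hQB hQt fun x hx => congrArg Subtype.val (ha ⟨x, hx⟩)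
    exact Subtype.ext (Subtype.ext ((key a).trans (key b).symm))
  rw [hone] at hmod
  intro hd
  rw [hidx] at hd
  have := (Nat.ModEq.symm hmod).trans (Nat.modEq_zero_iff_dvd.2 hd)
  rw [Nat.modEq_zero_iff_dvd] at this
  exact hp.out.not_dvd_one this

include H in
theorem card_opp_eq : Nat.card {o : Ch P m // D.Opp o} = p ^ (Nat.card G).factorization p := by
  obtain ⟨N, hN⟩ := H.exists_card_opp
  have h := H.borel.card_mul_index
  rw [H.card_borel, hN] at h
  rw [hN, ← h, Nat.factorization_mul (mul_ne_zero (pow_ne_zero _ hp.out.ne_zero) Nat.card_pos.ne')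
      Subgroup.index_ne_zero_of_finite,
    Nat.factorization_mul (pow_ne_zero _ hp.out.ne_zero) Nat.card_pos.ne', Finsupp.add_apply,
    Finsupp.add_apply, hp.out.factorization_pow, Finsupp.single_eq_same,
    Nat.factorization_eq_zero_of_not_dvd H.not_dvd_torus,
    Nat.factorization_eq_zero_of_not_dvd H.index_borel_coprime, add_zero, add_zero]

end Good

end Cfsg.Lib.Linear.Steinberg
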