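import Cfsg.Agent.Lib.Linear.Steinberg.Basic

/-!
# Chambers and the climb towards opposition

Maximal singular flags of a polar space, the heights occurring in their members, and: from a chamber
not opposite to the base chamber some panel leads only upwards.
-/

set_option autoImplicit false
set_option linter.unusedSectionVars false

namespace Cfsg.Lib.Linear.Steinberg

open Module

variable {F V : Type*} [Field F] [AddCommGroup V] [Module F V] {P : Polar F V} {m : ℕ}

namespace Setup

variable (D : Setup P m)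

open Classical in
/-- The heights occurring in a subspace. -/
noncomputable def levels (W : Submodule F V) : Finset ℕ :=
  (Finset.Icc 1 (2 * m)).filter fun a => ∃ w ∈ W, D.ht w = a

theorem mem_levels {W : Submodule F V} {a : ℕ} : a ∈ D.levels W ↔ 0 < a ∧ ∃ w ∈ W, D.ht w = a := by
  classical
  rw [levels, Finset.mem_filter, Finset.mem_Icc]
  constructor
  · rintro ⟨⟨h1, -⟩, h⟩; exact ⟨h1, h⟩
  · rintro ⟨h1, w, hw, rfl⟩; exact ⟨⟨h1, D.ht_le_two w⟩, w, hw, rfl⟩

theorem ht_mem_levels {W : Submodule F V} (hW : P.IsTS W) {w : V} (hw : w ∈ W) (hw0 : w ≠ 0) :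
    D.ht w ∈ D.levels W :=
  D.mem_levels.2 ⟨Nat.pos_of_ne_zero fun h => hw0 (D.eq_zero_of_ht (hW.1 w hw) h), w, hw, rfl⟩

theorem levels_bot : D.levels ⊥ = ∅ := by
  ext a
  simp only [mem_levels, Submodule.mem_bot, Finset.notMem_empty, iff_false]
  rintro ⟨h, w, rfl, rfl⟩
  rw [D.ht_zero] at h
  exact lt_irrefl _ h

theorem finrank_le_levels [FiniteDimensional F V] {W : Submodule F V} (hW : P.IsTS W) :
    finrank F W ≤ (D.levels W).card := by
  let T : W →ₗ[F] ({a // a ∈ D.levels W} → F) :=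
    (LinearMap.pi fun a : {a // a ∈ D.levels W} => D.ψ ((a : ℕ) - 1)).comp W.subtype
  have hinj : Function.Injective T := by
    rw [← LinearMap.ker_eq_bot, LinearMap.ker_eq_bot']
    intro w hw
    by_contra hne
    have hne' : (w : V) ≠ 0 := fun h => hne (Subtype.ext h)
    have hmem := D.ht_mem_levels hW w.2 hne'
    have h1 : D.ψ (D.ht (w : V) - 1) (w : V) = 0 := congrFun hw ⟨_, hmem⟩
    exact D.ψ_top_ne (a := D.ht (w : V) - 1)
      (by have := (D.mem_levels.1 hmem).1; omega) h1
  refine (LinearMap.finrank_le_finrank_of_injective hinj).trans ?_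
  rw [Module.finrank_fintype_fun_eq_card, Fintype.card_coe]

theorem levels_pair {W : Submodule F V} (hW : P.IsTS W) {a : ℕ} (ha : a ∈ D.levels W) (ham : a ≤ m) :
    2 * m + 1 - a ∉ D.levels W := by
  intro hb
  obtain ⟨ha0, w, hw, rfl⟩ := D.mem_levels.1 ha
  obtain ⟨-, w', hw', hb'⟩ := D.mem_levels.1 hb
  have hwE := (D.ht_le_m (hW.1 w hw) ham).1 le_rfl
  set k : Fin m := ⟨D.ht w - 1, by omega⟩ with hk
  have hwk : P.β w (D.f k) ≠ 0 := by
    have := D.ψ_top_ne (x := w) (a := D.ht w - 1) (by omega)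
    rwa [D.ψ_lo (by omega)] at this
  have hwk' : P.β w' (D.e k) ≠ 0 := by
    have hk' : (k : ℕ) = D.ht w - 1 := rfl
    have := D.ψ_top_ne (x := w') (a := 2 * m - 1 - (k : ℕ)) (by omega)
    rwa [D.ψ_hi] at this
  set s := ∑ j, P.β w (D.f j) • D.e j with hs
  have h1 : w = s := by
    have hz : w - s = 0 := by
      refine D.aniso _ (fun j => ?_) (fun j => ?_) ?_
      · rw [hs, P.sub_left, P.sum_left, D.E_βe hwE]
        simp [P.smul_left, D.frame.ee]
      · simp [hs, P.sub_left, P.sum_left, P.smul_left, D.frame.ef]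
      · refine (D.isTS_E m).1 _ (Submodule.sub_mem _ ((D.E_mono ham) hwE) ?_)
        exact D.sum_mem_E _ fun j hj => absurd hj (not_le.2 j.isLt)
    exact sub_eq_zero.1 hz
  have h2 : P.β w w' = P.β w (D.f k) * P.β (D.e k) w' := by
    conv_lhs => rw [h1, hs, P.sum_left]
    rw [Finset.sum_eq_single k]
    · rw [P.smul_left]
    · intro j _ hj
      rw [P.smul_left]
      rcases lt_or_gt_of_ne (fun e => hj (Fin.ext e) : (j : ℕ) ≠ (k : ℕ)) with h | h
      · have hk' : (k : ℕ) = D.ht w - 1 := rfl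
        have : P.β w' (D.e j) = 0 := D.perp_of_ht (by omega)
        rw [P.zero_comm this, mul_zero]
      · have hk' : (k : ℕ) = D.ht w - 1 := rfl
        rw [D.E_βf hwE (by omega), zero_mul]
    · simp
  refine mul_ne_zero hwk (fun h0 => hwk' (P.zero_comm h0)) ?_
  rw [← h2]
  exact hW.2 w hw w' hw'

include D in
theorem finrank_le_rank [FiniteDimensional F V] {W : Submodule F V} (hW : P.IsTS W) :
    finrank F W ≤ m := by
  refine (D.finrank_le_levels hW).trans ?_
  have hpos : ∀ a ∈ D.levels W, 0 < a ∧ a ≤ 2 * m := fun a ha => by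
    obtain ⟨h, w, -, rfl⟩ := D.mem_levels.1 ha
    exact ⟨h, D.ht_le_two w⟩
  have hm : (Finset.Icc 1 m).card = m := by simp
  refine le_of_le_of_eq ?_ hm
  refine Finset.card_le_card_of_injOn (fun a => min a (2 * m + 1 - a)) (fun a ha => ?_) ?_
  · have := hpos a ha
    simp only [Finset.coe_Icc, Set.mem_Icc]
    omega
  · intro a ha b hb hab
    have h1 := hpos a ha
    have h2 := hpos b hb
    simp only at hab
    rcases le_or_gt a m with h | h <;> rcases le_or_gt b m with h' | h'
    · omega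
    · exact absurd (show 2 * m + 1 - a = b by omega) fun e => D.levels_pair hW ha h (e ▸ hb)
    · exact absurd (show 2 * m + 1 - b = a by omega) fun e => D.levels_pair hW hb h' (e ▸ ha)
    · omega

/-- Enlarging by one dimension adds exactly the least new height. -/
theorem levels_covBy {U W : Submodule F V} (hW : P.IsTS W) (hUW : U ≤ W)
    {w : V} (hw : w ∈ W) (hwU : w ∉ U) (hspan : W ≤ U ⊔ Submodule.span F {w})
    (hmin : ∀ x ∈ W, x ∉ U → D.ht w ≤ D.ht x) :
    D.levels W = insert (D.ht w) (D.levels U) ∧ D.ht w ∉ D.levels U := by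
  have hw0 : w ≠ 0 := fun h => hwU (h ▸ U.zero_mem)
  have hpos : 0 < D.ht w := (D.mem_levels.1 (D.ht_mem_levels hW hw hw0)).1
  have hnot : D.ht w ∉ D.levels U := by
    intro h
    obtain ⟨-, u, hu, hhu⟩ := D.mem_levels.1 h
    obtain ⟨c, -, hc⟩ := D.exists_lower hhu.symm hpos
    refine absurd (hmin _ (W.sub_mem hw (W.smul_mem c (hUW hu))) fun h' => hwU ?_) (not_le.2 hc)
    have := U.add_mem h' (U.smul_mem c hu)
    rwa [sub_add_cancel] at this
  refine ⟨?_, hnot⟩
  ext a
  rw [Finset.mem_insert]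
  constructor
  · intro ha
    obtain ⟨ha0, x, hx, rfl⟩ := D.mem_levels.1 ha
    obtain ⟨u, hu, y, hy, rfl⟩ := Submodule.mem_sup.1 (hspan hx)
    obtain ⟨c, rfl⟩ := Submodule.mem_span_singleton.1 hy
    rcases eq_or_ne c 0 with rfl | hc
    · rw [zero_smul, add_zero] at ha0 ⊢
      exact Or.inr (D.mem_levels.2 ⟨ha0, u, hu, rfl⟩)
    · rcases lt_trichotomy (D.ht u) (D.ht (c • w)) with h | h | h
      · rw [add_comm, D.ht_add_of_lt h, D.ht_smul hc]
        exact Or.inl rfl
      · rw [D.ht_smul hc] at h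
        exact absurd (D.mem_levels.2 ⟨by omega, u, hu, rfl⟩) (h ▸ hnot)
      · rw [D.ht_add_of_lt h]
        exact Or.inr (D.mem_levels.2 ⟨by omega, u, hu, rfl⟩)
  · rintro (rfl | ha)
    · exact D.ht_mem_levels hW hw hw0
    · obtain ⟨ha0, u, hu, rfl⟩ := D.mem_levels.1 ha
      exact D.mem_levels.2 ⟨ha0, u, hUW hu, rfl⟩

end Setup

/-- Maximal singular flags. -/
@[ext] structure Ch (P : Polar F V) (m : ℕ) where
  W : Fin (m + 1) → Submodule F V
  rk : ∀ i, finrank F (W i) = (i : ℕ)
  mono : Monotone W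
  ts : ∀ i, P.IsTS (W i)

namespace Ch

variable [FiniteDimensional F V] (c : Ch P m)

theorem bot : c.W 0 = ⊥ := Submodule.finrank_eq_zero.1 (by simpa using c.rk 0)

theorem step_le (k : Fin m) : c.W k.castSucc ≤ c.W k.succ := c.mono (Fin.castSucc_le_succ k)

theorem exists_new (k : Fin m) : ∃ w, w ∈ c.W k.succ ∧ w ∉ c.W k.castSucc := by
  refine SetLike.exists_of_lt (lt_of_le_of_ne (c.step_le k) fun h => ?_)
  have := congrArg (fun U : Submodule F V => finrank F U) h
  simp [c.rk] at this

theorem span_new {k : Fin m} {w : V} (hw : w ∈ c.W k.succ) (hwU : w ∉ c.W k.castSucc) :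
    c.W k.succ = c.W k.castSucc ⊔ Submodule.span F {w} := by
  symm
  refine Submodule.eq_of_le_of_finrank_le (sup_le (c.step_le k)
    ((Submodule.span_singleton_le_iff_mem _ _).2 hw)) ?_
  have h : c.W k.castSucc < c.W k.castSucc ⊔ Submodule.span F {w} := left_lt_sup.2 fun h =>
    hwU (h (Submodule.mem_span_singleton_self w))
  have := Submodule.finrank_lt_finrank_of_lt h
  simp [c.rk] at this ⊢
  omega

/-- Agreement away from one position. -/
def Adj (k : Fin m) (c' : Ch P m) : Prop := ∀ j, j ≠ k.succ → c'.W j = c.W j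

end Ch

namespace Setup

variable [FiniteDimensional F V] (D : Setup P m)

open Classical in
/-- The least new height at a step of a chamber. -/
noncomputable def newHt (c : Ch P m) (k : Fin m) : ℕ :=
  Nat.find (p := fun a => ∃ w ∈ c.W k.succ, w ∉ c.W k.castSucc ∧ D.ht w = a)
    (let ⟨w, h1, h2⟩ := c.exists_new k; ⟨_, w, h1, h2, rfl⟩)

theorem exists_newHt (c : Ch P m) (k : Fin m) :
    ∃ w, w ∈ c.W k.succ ∧ w ∉ c.W k.castSucc ∧ D.ht w = D.newHt c k := by
  classical
  obtain ⟨w, h1, h2, h3⟩ := Nat.find_spec (p := fun a => ∃ w ∈ c.W k.succ, w ∉ c.W k.castSucc ∧ D.ht w = a)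
    (let ⟨w, h1, h2⟩ := c.exists_new k; ⟨_, w, h1, h2, rfl⟩)
  exact ⟨w, h1, h2, h3⟩

theorem newHt_le {c : Ch P m} {k : Fin m} {w : V} (h1 : w ∈ c.W k.succ) (h2 : w ∉ c.W k.castSucc) :
    D.newHt c k ≤ D.ht w := by
  classical
  exact Nat.find_le ⟨w, h1, h2, rfl⟩

theorem levels_step (c : Ch P m) (k : Fin m) :
    D.levels (c.W k.succ) = insert (D.newHt c k) (D.levels (c.W k.castSucc)) ∧
      D.newHt c k ∉ D.levels (c.W k.castSucc) := by
  obtain ⟨w, h1, h2, h3⟩ := D.exists_newHt c k
  rw [← h3]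
  exact D.levels_covBy (c.ts _) (c.step_le k) h1 h2 (c.span_new h1 h2).le
    fun x hx hx' => h3 ▸ D.newHt_le hx hx'

theorem newHt_mem (c : Ch P m) (k : Fin m) : D.newHt c k ∈ D.levels (c.W k.succ) := by
  rw [(D.levels_step c k).1]; exact Finset.mem_insert_self _ _

theorem newHt_pos (c : Ch P m) (k : Fin m) : 0 < D.newHt c k :=
  (D.mem_levels.1 (D.newHt_mem c k)).1

theorem newHt_le_two (c : Ch P m) (k : Fin m) : D.newHt c k ≤ 2 * m := by
  obtain ⟨w, -, -, h⟩ := D.exists_newHt c k
  exact h ▸ D.ht_le_two w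

theorem levels_eq (c : Ch P m) : ∀ i : Fin (m + 1),
    D.levels (c.W i) ⊆ (Finset.univ.filter fun k : Fin m => k.castSucc < i).image (D.newHt c) := by
  intro i
  induction i using Fin.induction with
  | zero => rw [c.bot, D.levels_bot]; exact Finset.empty_subset _
  | succ k ih =>
    rw [(D.levels_step c k).1, Finset.insert_subset_iff]
    refine ⟨Finset.mem_image.2 ⟨k, by simp [Fin.castSucc_lt_succ_iff], rfl⟩, ih.trans ?_⟩
    refine Finset.image_subset_image fun l hl => ?_
    simp only [Finset.mem_filter, Finset.mem_univ, true_and] at hl ⊢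
    exact hl.trans (Fin.castSucc_lt_succ_iff.2 le_rfl)

/-- The weight of a chamber. -/
noncomputable def wt (c : Ch P m) : ℕ := ∑ i, ∑ a ∈ D.levels (c.W i), a

theorem wt_le (c : Ch P m) : D.wt c ≤ (m + 1) * ((2 * m) * (2 * m)) := by
  have hcard : ∀ i, ∑ a ∈ D.levels (c.W i), a ≤ 2 * m * (2 * m) := fun i => by
    have h1 : D.levels (c.W i) ⊆ Finset.Icc 1 (2 * m) := by
      classical exact Finset.filter_subset _ _
    refine (Finset.sum_le_sum_of_subset h1).trans ?_
    refine (Finset.sum_le_card_nsmul _ _ (2 * m) fun a ha => (Finset.mem_Icc.1 ha).2).trans ?_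
    simp
  refine (Finset.sum_le_sum fun i _ => hcard i).trans ?_
  simp

/-- A chamber is opposite to the base chamber. -/
def Opp (c : Ch P m) : Prop :=
  ∀ i : Fin (m + 1), ∀ w ∈ c.W i,
    (∀ j : Fin m, (j : ℕ) < (i : ℕ) → P.β w (D.e j) = 0) → w = 0

theorem wt_lt {c c' : Ch P m} {k : Fin m} (hadj : c.Adj k c') (hne : c' ≠ c)
    (hlt : ∀ w, w ∈ c'.W k.succ → w ∉ c.W k.succ → D.newHt c k < D.ht w) : D.wt c < D.wt c' := by
  have hbase : c'.W k.castSucc = c.W k.castSucc := hadj _ (ne_of_lt (Fin.castSucc_lt_succ_iff.2 le_rfl))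
  have hW : c'.W k.succ ≠ c.W k.succ := fun h => hne (Ch.ext (funext fun j => by
    rcases eq_or_ne j k.succ with rfl | hj
    · exact h
    · exact hadj j hj))
  obtain ⟨w, h1, h2, h3⟩ := D.exists_newHt c' k
  have h4 : w ∉ c.W k.succ := fun h => hW (by
    rw [c'.span_new h1 h2, c.span_new h (hbase ▸ h2), hbase])
  have h5 := hlt w h1 h4
  rw [h3] at h5
  refine Finset.sum_lt_sum (fun i _ => ?_) ⟨k.succ, Finset.mem_univ _, ?_⟩
  · rcases eq_or_ne i k.succ with rfl | hi
    · rw [(D.levels_step c k).1, (D.levels_step c' k).1, hbase,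
        Finset.sum_insert (D.levels_step c k).2,
        Finset.sum_insert (hbase ▸ (D.levels_step c' k).2)]
      omega
    · rw [hadj i hi]
  · rw [(D.levels_step c k).1, (D.levels_step c' k).1, hbase,
      Finset.sum_insert (D.levels_step c k).2, Finset.sum_insert (hbase ▸ (D.levels_step c' k).2)]
    omega

/-- From a chamber not opposite, some panel leads only upwards. -/
theorem climb (c : Ch P m) (hc : ¬ D.Opp c) :
    ∃ k : Fin m, ∀ c', c.Adj k c' → c' ≠ c → D.wt c < D.wt c' := by
  by_contra hno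
  push Not at hno
  have hdesc : ∀ k k' : Fin m, (k : ℕ) + 1 = k' → D.newHt c k' < D.newHt c k := by
    intro k k' hkk
    have hsucc : k'.castSucc = k.succ := Fin.ext hkk.symm
    rcases lt_trichotomy (D.newHt c k') (D.newHt c k) with h | h | h
    · exact h
    · refine absurd (D.newHt_mem c k) ?_
      rw [← h, ← hsucc]
      exact (D.levels_step c k').2
    · obtain ⟨c', hadj, hne, hle⟩ := hno k
      refine absurd (D.wt_lt hadj hne fun w hw hwc => h.trans_le ?_) (not_lt.2 hle)
      have htop : w ∈ c.W k'.succ := by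
        rw [← hadj k'.succ (fun e => by
          have := congrArg Fin.val e
          simp at this; omega)]
        exact c'.mono (Fin.le_def.2 (by simp; omega)) hw
      exact D.newHt_le htop (hsucc ▸ hwc)
  rcases Nat.eq_zero_or_pos m with hm | hm
  · refine hc fun i w hw _ => ?_
    have hi : i = 0 := Fin.ext (by have := i.isLt; simp; omega)
    rw [hi, c.bot] at hw
    exact hw
  set l : Fin m := ⟨m - 1, by omega⟩ with hl
  have hlast : m < D.newHt c l := by
    by_contra hle
    rw [not_lt] at hle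
    obtain ⟨c', hadj, hne, hwt⟩ := hno l
    refine absurd (D.wt_lt hadj hne fun w hw hwc => ?_) (not_lt.2 hwt)
    by_contra hh
    rw [not_lt] at hh
    obtain ⟨v, h1, h2, h3⟩ := D.exists_newHt c l
    have hw' : P.N w = 0 := (c'.ts _).1 w hw
    have hwE : w ∈ D.E m := (D.ht_le_m hw' le_rfl).1 (by omega)
    have hvE : v ∈ D.E m := (D.ht_le_m ((c.ts _).1 v h1) le_rfl).1 (by omega)
    have hbase : c'.W l.castSucc = c.W l.castSucc := hadj _ (ne_of_lt (Fin.castSucc_lt_succ_iff.2 le_rfl))
    have hts : P.IsTS (Submodule.span F ((c.W l.castSucc : Set V) ∪ {v, w})) := by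
      have hU : ∀ x ∈ c.W l.castSucc, x ∈ c.W l.succ ∧ x ∈ c'.W l.succ := fun x hx =>
        ⟨c.step_le l hx, c'.step_le l (hbase.symm ▸ hx)⟩
      refine P.isTS_span ?_ ?_
      · rintro x (hx | rfl | rfl)
        · exact (c.ts _).1 x hx
        · exact (c.ts _).1 x h1
        · exact hw'
      · rintro x (hx | rfl | rfl) y (hy | rfl | rfl)
        · exact (c.ts _).2 x hx y hy
        · exact (c.ts _).2 x (hU x hx).1 y h1
        · exact (c'.ts _).2 x (hU x hx).2 y hw
        · exact (c.ts _).2 x h1 y (hU y hy).1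
        · exact (c.ts _).2 _ h1 _ h1
        · exact (D.isTS_E m).2 x hvE y hwE
        · exact (c'.ts _).2 x hw y (hU y hy).2
        · exact (D.isTS_E m).2 x hwE y hvE
        · exact (c'.ts _).2 _ hw _ hw
    have hbig : c.W l.succ < Submodule.span F ((c.W l.castSucc : Set V) ∪ {v, w}) := by
      refine lt_of_le_of_ne ?_ fun e => hwc (e ▸ Submodule.subset_span (by simp))
      rw [c.span_new h1 h2, Submodule.span_union, Submodule.span_eq]
      exact sup_le_sup_left (Submodule.span_mono (by simp)) _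
    have := Submodule.finrank_lt_finrank_of_lt hbig
    have := D.finrank_le_rank hts
    simp [c.rk, hl] at *
    omega
  have hval : ∀ k : Fin m, 2 * m - (k : ℕ) ≤ D.newHt c k := by
    have up : ∀ d : ℕ, ∀ k : Fin m, (k : ℕ) + d = m - 1 → m + 1 + d ≤ D.newHt c k := by
      intro d
      induction d with
      | zero =>
        intro k hk
        obtain rfl : k = l := Fin.ext (by simpa [hl] using hk)
        omega
      | succ d ih =>
        intro k hk
        have h1 := ih ⟨(k : ℕ) + 1, by omega⟩ (by simp; omega)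
        have h2 := hdesc k ⟨(k : ℕ) + 1, by omega⟩ rfl
        omega
    intro k
    have := up (m - 1 - (k : ℕ)) k (by omega)
    omega
  refine hc fun i w hw hperp => ?_
  by_contra hw0
  obtain ⟨k, hk, hk'⟩ := Finset.mem_image.1 (D.levels_eq c i (D.ht_mem_levels (c.ts i) hw hw0))
  simp only [Finset.mem_filter, Finset.mem_univ, true_and, Fin.lt_def, Fin.val_castSucc] at hk
  have h1 := hval k
  obtain ⟨a, ha⟩ : ∃ a, D.ht w = a + 1 := ⟨D.ht w - 1, by omega⟩
  have hne := D.ψ_top_ne ha
  have h2 := D.ht_le_two w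
  have hj : 2 * m - 1 - a < m := by omega
  rw [show a = 2 * m - 1 - ((⟨2 * m - 1 - a, hj⟩ : Fin m) : ℕ) from
    (show a = 2 * m - 1 - (2 * m - 1 - a) by omega), D.ψ_hi] at hne
  exact hne (hperp _ (show 2 * m - 1 - a < (i : ℕ) by omega))

end Setup

end Cfsg.Lib.Linear.Steinberg
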