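import Cfsg.Agent.Lib.Linear.Steinberg.Group
import Cfsg.Agent.Lib.Linear.Unipotent.Steinberg

/-!
# The Steinberg character

The module is irreducible, the centre acts trivially, and the character of the quotient by the centre
has full `p`-degree.
-/

set_option autoImplicit false
set_option linter.unusedSectionVars false

namespace Cfsg.Lib.Linear.Steinberg

open Module Cfsg Cfsg.Lib.Char
open scoped ComplexConjugate

variable {F V : Type*} [Field F] [AddCommGroup V] [Module F V] [Finite V] [FiniteDimensional F V]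
  {P : Polar F V} {m : ℕ} {G : Type*} [Group G]

/-- The representation on the Steinberg module. -/
noncomputable def stRep (ρ : G →* P.iso) : Representation ℂ G (stMod P m) where
  toFun g :=
    { toFun := fun f => ⟨fun c => (f : Ch P m → ℂ) ((ρ g)⁻¹ • c), comp_smul_mem f.2 _⟩
      map_add' := fun _ _ => rfl
      map_smul' := fun _ _ => rfl }
  map_one' := by
    refine LinearMap.ext fun f => Subtype.ext (funext fun c => ?_)
    show (f : Ch P m → ℂ) ((ρ 1)⁻¹ • c) = (f : Ch P m → ℂ) c
    rw [map_one, inv_one, one_smul]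
  map_mul' g h := by
    refine LinearMap.ext fun f => Subtype.ext (funext fun c => ?_)
    show (f : Ch P m → ℂ) ((ρ (g * h))⁻¹ • c) = (f : Ch P m → ℂ) ((ρ h)⁻¹ • (ρ g)⁻¹ • c)
    rw [map_mul, mul_inv_rev, mul_smul]

theorem stRep_apply (ρ : G →* P.iso) (g : G) (f : stMod P m) (c : Ch P m) :
    ((stRep (m := m) ρ g f : stMod P m) : Ch P m → ℂ) c = (f : Ch P m → ℂ) ((ρ g)⁻¹ • c) := rfl

namespace Good

variable {D : Setup P m} {p : ℕ} [hp : Fact p.Prime] [CharP F p] [Finite G] {ρ : G →* P.iso}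
  (H : Good D p ρ)

include H in
/-- A member of the module is determined on the orbit of the base chamber. -/
theorem detect {f : Ch P m → ℂ} (hf : f ∈ stMod P m) (h : ∀ g, f (ρ g • D.c₀) = 0) : f = 0 := by
  refine D.eq_zero_of_opp hf fun o ho => ?_
  obtain ⟨x, -, rfl⟩ := H.trans o ho
  obtain ⟨g, hg | ⟨k, hk, hpanel⟩⟩ := H.conn
  · rw [← hg, ← mul_smul, ← map_mul]; exact h _
  · refine stMod_eq_zero (f := fun c => f (ρ x • c)) (comp_smul_mem hf (ρ x)) k fun c' h1 h2 => ?_
    rw [(hpanel c' h1).resolve_left h2]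
    show f (ρ x • ρ g • D.c₀) = 0
    rw [← mul_smul, ← map_mul]
    exact h _

include H in
theorem finrank_eq : finrank ℂ (stMod P m) = p ^ (Nat.card G).factorization p := by
  rw [D.finrank_stMod, H.card_opp_eq]

include H in
theorem irreducible : (stRep (m := m) ρ).IsIrreducible := by
  classical
  have hnt : Nontrivial (stMod P m) := Module.finrank_pos_iff.1 (by
    rw [H.finrank_eq]; exact pow_pos hp.out.pos _)
  rw [isIrreducible_iff_submodule]
  refine ⟨hnt, fun N hN => ?_⟩
  haveI := Fintype.ofFinite (Ch P m)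
  haveI := Fintype.ofFinite H.borel
  -- every non-zero invariant subspace contains a borel-invariant member not vanishing at the base chamber
  have key : ∀ N : Submodule ℂ (stMod P m), (∀ g, ∀ x ∈ N, stRep ρ g x ∈ N) → N ≠ ⊥ →
      ∃ f ∈ N, (∀ b : H.borel, stRep ρ (b : G) f = f) ∧ (f : Ch P m → ℂ) D.c₀ ≠ 0 := by
    intro N hN hN0
    obtain ⟨f, hfN, hf0⟩ := Submodule.exists_mem_ne_zero_of_ne_bot hN0
    obtain ⟨g, hg⟩ : ∃ g, (f : Ch P m → ℂ) (ρ g • D.c₀) ≠ 0 := by
      by_contra hno
      push Not at hno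
      exact hf0 (Subtype.ext (H.detect f.2 hno))
    set f1 := stRep ρ g⁻¹ f with hf1
    have hf1c : (f1 : Ch P m → ℂ) D.c₀ ≠ 0 := by rwa [hf1, stRep_apply, map_inv, inv_inv]
    refine ⟨∑ b : H.borel, stRep ρ (b : G) f1, Submodule.sum_mem _ fun b _ => hN _ _ (hN _ _ hfN),
      fun b => ?_, ?_⟩
    · rw [map_sum]
      refine Fintype.sum_equiv (Equiv.mulLeft b) _ _ fun a => ?_
      rw [← Module.End.mul_apply, ← map_mul]
      rfl
    · rw [AddSubmonoidClass.coe_finsetSum, Finset.sum_apply, Finset.sum_congr rfl (g := fun _ => (f1 : Ch P m → ℂ) D.c₀)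
        fun b _ => by
          have h : (ρ (b : G))⁻¹ • D.c₀ = D.c₀ := inv_smul_eq_iff.2 b.2.symm
          rw [stRep_apply, h], Finset.sum_const, nsmul_eq_mul]
      exact mul_ne_zero (Nat.cast_ne_zero.2 Fintype.card_ne_zero) hf1c
  -- the borel-invariant members form a line
  have line : ∀ f f' : stMod P m, (∀ b : H.borel, stRep ρ (b : G) f = f) →
      (∀ b : H.borel, stRep ρ (b : G) f' = f') →
      (f' : Ch P m → ℂ) D.o₀ • f = (f : Ch P m → ℂ) D.o₀ • f' := by
    intro f f' hf hf'
    have hev : ∀ f : stMod P m, (∀ b : H.borel, stRep ρ (b : G) f = f) → ∀ o, D.Opp o →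
        (f : Ch P m → ℂ) o = (f : Ch P m → ℂ) D.o₀ := by
      intro f hf o ho
      obtain ⟨x, hx, rfl⟩ := H.trans o ho
      have := congrArg (fun u : stMod P m => (u : Ch P m → ℂ) (ρ x • D.o₀)) (hf ⟨x, hx⟩)
      simp only [stRep_apply, inv_smul_smul] at this
      exact this.symm
    refine Subtype.ext (sub_eq_zero.1 (D.eq_zero_of_opp
      ((stMod P m).sub_mem (Submodule.coe_mem _) (Submodule.coe_mem _)) fun o ho => ?_))
    show (f' : Ch P m → ℂ) D.o₀ * (f : Ch P m → ℂ) o - (f : Ch P m → ℂ) D.o₀ * (f' : Ch P m → ℂ) o = 0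
    rw [hev f hf o ho, hev f' hf' o ho]
    ring
  by_contra hcon
  push Not at hcon
  obtain ⟨hN0, hN1⟩ := hcon
  -- the orthogonal complement
  let ip : stMod P m → stMod P m → ℂ := fun n f => ∑ c, conj ((n : Ch P m → ℂ) c) * (f : Ch P m → ℂ) c
  let N' : Submodule ℂ (stMod P m) :=
    { carrier := {f | ∀ n ∈ N, ip n f = 0}
      zero_mem' := fun n _ => by simp [ip]
      add_mem' := fun {a b} ha hb n hn => by
        have := ha n hn
        have := hb n hn
        simp only [ip, Submodule.coe_add, Pi.add_apply, mul_add, Finset.sum_add_distrib] at *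
        simp [*]
      smul_mem' := fun r a ha n hn => by
        have h := ha n hn
        simp only [ip, Submodule.coe_smul, Pi.smul_apply, smul_eq_mul] at *
        rw [Finset.sum_congr rfl fun c _ => mul_left_comm _ r _, ← Finset.mul_sum, h, mul_zero] }
  have hN' : ∀ g, ∀ x ∈ N', stRep ρ g x ∈ N' := fun g x hx n hn => by
    show ∑ c, conj ((n : Ch P m → ℂ) c) * (stRep (m := m) ρ g x : stMod P m).1 c = 0
    rw [← hx _ (hN g⁻¹ n hn)]
    refine Fintype.sum_equiv (MulAction.toPerm (ρ g)⁻¹) _ _ fun c => ?_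
    show _ = conj ((stRep (m := m) ρ g⁻¹ n : stMod P m).1 ((ρ g)⁻¹ • c)) * _
    simp [stRep_apply]
  have hdisj : ∀ f ∈ N, f ∈ N' → f = 0 := by
    intro f hf hf'
    have h := hf' f hf
    simp only [ip, ← Complex.normSq_eq_conj_mul_self, ← Complex.ofReal_sum, Complex.ofReal_eq_zero] at h
    refine Subtype.ext (funext fun c => ?_)
    have := (Finset.sum_eq_zero_iff_of_nonneg fun c _ => Complex.normSq_nonneg _).1 h c (Finset.mem_univ c)
    exact Complex.normSq_eq_zero.1 this
  have hN'0 : N' ≠ ⊥ := by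
    intro hbot
    haveI : Module.Free ℂ N := Module.Free.of_divisionRing ℂ N
    let bs := Module.finBasis ℂ N
    let T : stMod P m →ₗ[ℂ] (Fin (finrank ℂ N) → ℂ) :=
      { toFun := fun f i => ip (bs i : stMod P m) f
        map_add' := fun a b => funext fun i => by
          simp [ip, mul_add, Finset.sum_add_distrib]
        map_smul' := fun r a => funext fun i => by
          simp [ip, Finset.mul_sum, mul_left_comm] }
    have hT : Function.Injective T := by
      rw [← LinearMap.ker_eq_bot, LinearMap.ker_eq_bot']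
      intro f hf
      have hmem : f ∈ N' := by
        intro n hn
        obtain ⟨a, ha⟩ : ∃ a : Fin (finrank ℂ N) → ℂ, ∑ i, a i • (bs i : stMod P m) = n :=
          ⟨fun i => bs.repr ⟨n, hn⟩ i, by
            have := congrArg N.subtype (bs.sum_repr ⟨n, hn⟩)
            simp only [map_sum, map_smul, Submodule.subtype_apply] at this
            exact this⟩
        have h0 : ∀ i, ip (bs i : stMod P m) f = 0 := fun i => congrFun hf i
        simp only [ip] at h0 ⊢
        rw [← ha]
        simp only [AddSubmonoidClass.coe_finsetSum, Finset.sum_apply, Submodule.coe_smul, Pi.smul_apply,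
          smul_eq_mul, map_sum, map_mul, Finset.sum_mul]
        rw [Finset.sum_comm]
        refine Finset.sum_eq_zero fun i _ => ?_
        simp only [mul_assoc, ← Finset.mul_sum, h0 i, mul_zero]
      rwa [hbot, Submodule.mem_bot] at hmem
    have h1 := LinearMap.finrank_le_finrank_of_injective hT
    rw [Module.finrank_fin_fun] at h1
    have h2 := Submodule.finrank_lt hN1
    omega
  obtain ⟨f, hf, hfinv, hfc⟩ := key N hN hN0
  obtain ⟨f', hf', hf'inv, hf'c⟩ := key N' hN' hN'0
  have hne : ∀ u : stMod P m, (∀ b : H.borel, stRep ρ (b : G) u = u) → (u : Ch P m → ℂ) D.c₀ ≠ 0 →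
      (u : Ch P m → ℂ) D.o₀ ≠ 0 := by
    intro u hu huc h0
    refine huc ?_
    have hz : (u : Ch P m → ℂ) = 0 := D.eq_zero_of_opp u.2 fun o ho => by
      obtain ⟨x, hx, rfl⟩ := H.trans o ho
      have := congrArg (fun z : stMod P m => (z : Ch P m → ℂ) (ρ x • D.o₀)) (hu ⟨x, hx⟩)
      simp only [stRep_apply, inv_smul_smul, h0] at this
      exact this.symm
    rw [hz]; rfl
  have hl := line f f' hfinv hf'inv
  have hfN' : f ∈ N' := by
    have := N'.smul_mem ((f' : Ch P m → ℂ) D.o₀)⁻¹ (hl.symm ▸ N'.smul_mem _ hf' : (f' : Ch P m → ℂ) D.o₀ • f ∈ N')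
    rwa [inv_smul_smul₀ (hne f' hf'inv hf'c)] at this
  exact hfc (by rw [hdisj f hf hfN']; rfl)

include H in
theorem center_trivial {z : G} (hz : z ∈ Subgroup.center G) (f : stMod P m) : stRep ρ z f = f := by
  obtain ⟨Q, hQp, hQB, hQt⟩ := H.exists_unip
  have hzc : ρ z • D.c₀ = D.c₀ := H.fixed_eq hQp hQB hQt fun x hx => by
    rw [← mul_smul, ← map_mul, Subgroup.mem_center_iff.1 hz x, map_mul, mul_smul, hQB hx]
  refine Subtype.ext (sub_eq_zero.1 (H.detect ((stMod P m).sub_mem (Submodule.coe_mem _) f.2) fun g => ?_))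
  show (f : Ch P m → ℂ) ((ρ z)⁻¹ • ρ g • D.c₀) - (f : Ch P m → ℂ) (ρ g • D.c₀) = 0
  rw [← map_inv, ← mul_smul, ← map_mul, ← Subgroup.mem_center_iff.1 (inv_mem hz) g, map_mul, mul_smul,
    map_inv, inv_smul_eq_iff.2 hzc.symm, sub_self]

include H in
theorem factorization_center : (Nat.card (Subgroup.center G)).factorization p = 0 := by
  refine Nat.factorization_eq_zero_of_not_dvd fun h => ?_
  obtain ⟨z, hz⟩ := exists_prime_orderOf_dvd_card' p h
  obtain ⟨Q, hQp, hQB, hQt⟩ := H.exists_unip
  have hzc : ρ (z : G) • D.c₀ = D.c₀ := H.fixed_eq hQp hQB hQt fun x hx => by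
    rw [← mul_smul, ← map_mul, Subgroup.mem_center_iff.1 z.2 x, map_mul, mul_smul, hQB hx]
  classical
  have hfix := congrArg (fun u : stMod P m => (u : Ch P m → ℂ) D.o₀)
    (H.center_trivial (inv_mem z.2) ⟨D.apt, D.apt_mem⟩)
  simp only [stRep_apply, map_inv, inv_inv] at hfix
  rw [D.apt_opp (D.opp_smul hzc D.opp_o₀), D.apt_opp D.opp_o₀, if_pos rfl] at hfix
  have hzo : ρ (z : G) • D.o₀ = D.o₀ := by
    by_contra hne
    rw [if_neg hne] at hfix
    exact Setup.sgn_ne _ hfix.symm
  have h1 : (z : G) = 1 := H.eq_one_of_torus ⟨hzc, hzo⟩ (by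
    have h2 := pow_orderOf_eq_one (z : G)
    rwa [Subgroup.orderOf_coe, hz] at h2)
  rw [orderOf_eq_one_iff.2 (Subtype.ext h1)] at hz
  exact hp.out.ne_one hz.symm

include H in
/-- The Steinberg character of the quotient by the centre. -/
theorem exists_steinberg : ∃ χ : G ⧸ Subgroup.center G → ℂ, IsIrrCharacter (G ⧸ Subgroup.center G) χ ∧
    ∀ S : Sylow p (G ⧸ Subgroup.center G), χ 1 = Nat.card S ∧ ∀ x : G ⧸ Subgroup.center G, x ∈ S → x ≠ 1 → χ x = 0 := by
  haveI := H.irreducible
  obtain ⟨χ, hχ, hχe⟩ := exists_deflate_irr (N := Subgroup.center G)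
    (isIrrCharacter_character (stRep (m := m) ρ)) fun z hz => by
      simp only [Representation.character]
      rw [show stRep (m := m) ρ z = 1 from LinearMap.ext fun f => H.center_trivial hz f, map_one (stRep (m := m) ρ)]
  have hfac : (Nat.card (G ⧸ Subgroup.center G)).factorization p = (Nat.card G).factorization p := by
    rw [← (Subgroup.center G).index_eq_card, ← (Subgroup.center G).card_mul_index,
      Nat.factorization_mul Nat.card_pos.ne' Subgroup.index_ne_zero_of_finite, Finsupp.add_apply,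
      H.factorization_center, zero_add]
  have hdeg : χ 1 = ((p ^ (Nat.card (G ⧸ Subgroup.center G)).factorization p : ℕ) : ℂ) := by
    rw [← QuotientGroup.mk_one, hχe, Representation.char_one, hfac, H.finrank_eq]
  refine ⟨χ, hχ, fun S => ⟨by rw [hdeg, S.card_eq_multiplicity], fun x hx hx1 => ?_⟩⟩
  refine Cfsg.Lib.Linear.Unipotent.vanish_of_full_degree p hχ hdeg ?_
  obtain ⟨k, hk⟩ := IsPGroup.iff_orderOf.1 S.isPGroup' ⟨x, hx⟩
  rw [Subgroup.orderOf_mk] at hk
  rw [hk]
  refine dvd_pow_self p fun h => hx1 ?_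
  rw [h, pow_zero, orderOf_eq_one_iff] at hk
  exact hk

end Good

end Cfsg.Lib.Linear.Steinberg
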