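import Cfsg.Agent.Lib.Linear.Steinberg.Opposite

/-!
# The Steinberg module of a polar space

Functions on chambers whose panel sums vanish: evaluation at the opposite chambers is bijective.
-/

set_option autoImplicit false
set_option linter.unusedSectionVars false

namespace Cfsg.Lib.Linear.Steinberg

open Module

variable {F V : Type*} [Field F] [AddCommGroup V] [Module F V] [Finite V] [FiniteDimensional F V]
  {P : Polar F V} {m : ℕ}

instance : Finite (Ch P m) :=
  Finite.of_injective (fun c i => ((c.W i : Submodule F V) : Set V)) fun c c' h =>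
    Ch.ext (funext fun i => SetLike.coe_injective (congrFun h i))

instance : Finite P.iso :=
  Finite.of_injective (fun g => ((g : V ≃ₗ[F] V) : V → V)) fun _ _ h =>
    Subtype.ext (LinearEquiv.ext (congrFun h))

variable (P m) in
/-- The Steinberg module. -/
noncomputable def stMod : Submodule ℂ (Ch P m → ℂ) where
  carrier := {f | ∀ (c : Ch P m) (k : Fin m), ∑ᶠ c' : {c' // c.Adj k c'}, f c' = 0}
  zero_mem' := fun c k => by simp
  add_mem' := fun {a b} ha hb c k => by
    rw [show (fun c' : {c' // c.Adj k c'} => (a + b) c') = fun c' => a c'.1 + b c'.1 from rfl,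
      finsum_add_distrib (Set.toFinite _) (Set.toFinite _), ha c k, hb c k, add_zero]
  smul_mem' := fun r a ha c k => by
    rw [show (fun c' : {c' // c.Adj k c'} => (r • a) c') = fun c' => r * a c'.1 from rfl,
      ← mul_finsum, ha c k, mul_zero]

theorem comp_smul_mem {f : Ch P m → ℂ} (hf : f ∈ stMod P m) (g : P.iso) :
    (fun c => f (g • c)) ∈ stMod P m := fun c k => by
  rw [← hf (g • c) k]
  refine finsum_eq_of_bijective
    (fun c' : {c' // c.Adj k c'} => (⟨g • c'.1, Ch.adj_smul c'.2⟩ : {c' // (g • c).Adj k c'}))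
    ⟨fun a b h => Subtype.ext (MulAction.injective g (congrArg Subtype.val h)), fun c' => ?_⟩
    fun _ => rfl
  refine ⟨⟨g⁻¹ • c'.1, ?_⟩, Subtype.ext (smul_inv_smul _ _)⟩
  have := Ch.adj_smul (g := g⁻¹) c'.2
  rwa [inv_smul_smul] at this

/-- A member of the module at a chamber is minus the sum over the rest of a panel. -/
theorem stMod_eq_zero {f : Ch P m → ℂ} (hf : f ∈ stMod P m) {c : Ch P m} (k : Fin m)
    (h : ∀ c', c.Adj k c' → c' ≠ c → f c' = 0) : f c = 0 := by
  rw [← hf c k]
  exact (finsum_eq_single (fun c' : {c' // c.Adj k c'} => f c'.1) ⟨c, fun _ _ => rfl⟩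
    fun c' hc' => h c' c'.2 fun e => hc' (Subtype.ext e)).symm

namespace Setup

variable (D : Setup P m)

theorem eq_zero_of_opp {f : Ch P m → ℂ} (hf : f ∈ stMod P m) (h : ∀ o, D.Opp o → f o = 0) : f = 0 := by
  suffices ∀ n (c : Ch P m), (m + 1) * ((2 * m) * (2 * m)) - D.wt c ≤ n → f c = 0 from
    funext fun c => this _ c le_rfl
  intro n
  induction n with
  | zero =>
    intro c hn
    by_contra hne
    obtain ⟨k, hk⟩ := D.climb c fun ho => hne (h c ho)
    refine hne (stMod_eq_zero hf k fun c' h1 h2 => ?_)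
    have := hk c' h1 h2
    have := D.wt_le c'
    omega
  | succ n ih =>
    intro c hn
    by_contra hne
    obtain ⟨k, hk⟩ := D.climb c fun ho => hne (h c ho)
    refine hne (stMod_eq_zero hf k fun c' h1 h2 => ih c' ?_)
    have := hk c' h1 h2
    have := D.wt_le c'
    omega

/-! ## The standard apartment -/

/-- The index set of the standard apartment. -/
abbrev Apt (m : ℕ) : Type := Equiv.Perm (Fin m) × (Fin m → Bool)

/-- The vectors of an apartment chamber. -/
def vec (w : Apt m) (j : Fin m) : V := if w.2 j then D.e (w.1 j) else D.f (w.1 j)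

/-- The partners of the vectors of an apartment chamber. -/
def dual (w : Apt m) (j : Fin m) : V := if w.2 j then D.f (w.1 j) else D.e (w.1 j)

/-- The chambers of the standard apartment. -/
def chamber (w : Apt m) : Ch P m :=
  Ch.ofFamily (D.vec w) (D.dual w)
    (fun j => by unfold vec; split <;> simp [D.frame.Ne, D.frame.Nf])
    (fun j k => by
      rcases eq_or_ne j k with rfl | h
      · unfold vec; split <;> simp [D.frame.ee, D.frame.ff]
      · unfold vec
        split <;> split <;> simp [D.frame.ee, D.frame.ff, D.frame.ef, D.frame.fe, h])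
    (fun j k h => by
      unfold vec dual
      split <;> split <;> simp [D.frame.ee, D.frame.ff, D.frame.ef, D.frame.fe, h])
    (fun j => by
      unfold vec dual
      split <;> simp [D.frame.ef, D.frame.fe, P.ε_ne])

/-- The sign of an apartment chamber. -/
noncomputable def sgn (w : Apt m) : ℂ :=
  ((Equiv.Perm.sign w.1 : ℤˣ) : ℤ) * ∏ j, if w.2 j then (-1 : ℂ) else 1

theorem sgn_ne (w : Apt m) : sgn w ≠ 0 :=
  mul_ne_zero (Int.cast_ne_zero.2 (Units.ne_zero _)) (Finset.prod_ne_zero_iff.2 fun j _ => by split <;> simp)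

open Classical in
/-- The alternating sum of the standard apartment. -/
noncomputable def apt (c : Ch P m) : ℂ := ∑ w : Apt m, if D.chamber w = c then sgn w else 0

/-- The opposite member of a panel pair in the apartment. -/
def flip (k : Fin m) (w : Apt m) : Apt m :=
  if h : (k : ℕ) + 1 < m then
    (w.1 * Equiv.swap k ⟨(k : ℕ) + 1, h⟩, w.2 ∘ Equiv.swap k ⟨(k : ℕ) + 1, h⟩)
  else (w.1, Function.update w.2 k (!w.2 k))

theorem flip_flip (k : Fin m) (w : Apt m) : flip k (flip k w) = w := by
  unfold flip
  split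
  · refine Prod.ext ?_ ?_
    · simp [mul_assoc]
    · funext j; simp
  · simp

theorem sgn_flip (k : Fin m) (w : Apt m) : sgn (flip k w) = -sgn w := by
  unfold flip sgn
  split
  · rename_i h
    have hne : k ≠ ⟨(k : ℕ) + 1, h⟩ := fun e => by simp [Fin.ext_iff] at e
    simp only [Function.comp_apply, map_mul, Equiv.Perm.sign_swap hne]
    rw [Equiv.prod_comp (Equiv.swap k ⟨(k : ℕ) + 1, h⟩) (fun j => if w.2 j then (-1 : ℂ) else 1)]
    push_cast
    ring
  · rw [Finset.prod_eq_mul_prod_sdiff_singleton_of_mem (Finset.mem_univ k),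
      Finset.prod_eq_mul_prod_sdiff_singleton_of_mem (Finset.mem_univ k) (fun j => if w.2 j then (-1 : ℂ) else 1)]
    rw [Finset.prod_congr rfl (g := fun j => if w.2 j then (-1 : ℂ) else 1) fun j hj => by
      rw [Finset.mem_sdiff, Finset.mem_singleton] at hj
      simp only [Function.update_of_ne hj.2]]
    simp only [Function.update_self]
    cases w.2 k <;> simp

theorem chamber_flip (k : Fin m) (w : Apt m) : (D.chamber w).Adj k (D.chamber (flip k w)) := by
  have key : ∀ w' : Apt m, ∀ i : Fin (m + 1), i ≠ k.succ →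
      Ch.spanLT (F := F) (i := i) (D.vec (flip k w')) ≤ Ch.spanLT (F := F) (i := i) (D.vec w') := by
    intro w' i hi
    have hi' : (i : ℕ) ≠ (k : ℕ) + 1 := fun e => hi (Fin.ext e)
    refine Submodule.span_le.2 ?_
    rintro _ ⟨j, rfl⟩
    set j' : Fin m := j.castLE (Nat.le_of_lt_succ i.isLt) with hj'
    have hjv : (j' : ℕ) < i := j.isLt
    show D.vec (flip k w') j' ∈ Ch.spanLT (F := F) (i := i) (D.vec w')
    unfold flip
    split
    · rename_i h
      show D.vec w' (Equiv.swap k ⟨(k : ℕ) + 1, h⟩ j') ∈ _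
      refine Ch.mem_spanLT ?_
      rw [Equiv.swap_apply_def]
      split_ifs with h1 h2
      · rw [h1] at hjv; simp; omega
      · rw [h2] at hjv; simp at hjv; omega
      · exact hjv
    · rename_i h
      have hne : j' ≠ k := fun e => by
        rw [e] at hjv
        have := i.isLt
        omega
      simpa [vec, Function.update_of_ne hne] using Ch.mem_spanLT (F := F) (v := D.vec w') hjv
  intro i hi
  refine le_antisymm (key w i hi) ?_
  have := key (flip k w) i hi
  rwa [flip_flip] at this

theorem apt_mem : D.apt ∈ stMod P m := by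
  classical
  intro c k
  haveI := Fintype.ofFinite (Ch P m)
  haveI := Fintype.ofFinite {c' // c.Adj k c'}
  rw [finsum_eq_sum_of_fintype]
  simp only [apt]
  rw [Finset.sum_comm]
  have h : ∀ w : Apt m, (∑ c' : {c' // c.Adj k c'}, if D.chamber w = c'.1 then sgn w else 0) =
      if c.Adj k (D.chamber w) then sgn w else 0 := fun w => by
    split_ifs with hw
    · rw [Finset.sum_eq_single ⟨_, hw⟩ (fun c' _ hc' => if_neg fun e => hc' (Subtype.ext e.symm))
        (by simp)]
      simp
    · exact Finset.sum_eq_zero fun c' _ => if_neg fun (e : D.chamber w = c'.1) => hw (e ▸ c'.2)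
  rw [Finset.sum_congr rfl fun w _ => h w]
  refine Finset.sum_involution (fun w _ => flip k w) (fun w _ => ?_) (fun w _ hw e => ?_)
    (fun w _ => Finset.mem_univ _) (fun w _ => flip_flip k w)
  · have hiff : c.Adj k (D.chamber (flip k w)) ↔ c.Adj k (D.chamber w) :=
      ⟨fun h i hi => by rw [← h i hi, D.chamber_flip k w i hi],
        fun h i hi => by rw [D.chamber_flip k w i hi, h i hi]⟩
    by_cases hw : c.Adj k (D.chamber w)
    · rw [if_pos hw, if_pos (hiff.2 hw), sgn_flip, add_neg_cancel]
    · rw [if_neg hw, if_neg fun h => hw (hiff.1 h), add_zero]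
  · have hn := sgn_flip k w
    rw [e] at hn
    exact sgn_ne w (by linear_combination (1 / 2 : ℂ) * hn)

/-- The index of the standard opposite chamber. -/
def w₀ : Apt m := (1, fun _ => false)

theorem chamber_opp {w : Apt m} (hw : D.Opp (D.chamber w)) : w = w₀ := by
  have key : ∀ n, ∀ j : Fin m, (j : ℕ) = n → w.2 j = false ∧ w.1 j = j := by
    intro n
    induction n using Nat.strong_induction_on with
    | _ n ih =>
      intro j hj
      have hv0 : D.vec w j ≠ 0 := fun h0 => by
        have hd : P.β (D.vec w j) (D.dual w j) ≠ 0 := by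
          unfold vec dual
          split <;> simp [D.frame.ef, D.frame.fe, P.ε_ne]
        exact hd (by rw [h0, P.zero_left])
      have hmem : D.vec w j ∈ (D.chamber w).W j.succ := Ch.mem_spanLT (Nat.lt_succ_self _)
      obtain ⟨l, hl, hne⟩ : ∃ l : Fin m, (l : ℕ) < (j : ℕ) + 1 ∧ P.β (D.vec w j) (D.e l) ≠ 0 := by
        by_contra hall
        push Not at hall
        exact hv0 (hw j.succ _ hmem fun l hl => hall l hl)
      unfold vec at hne
      cases hb : w.2 j with
      | true => rw [hb] at hne; simp [D.frame.ee] at hne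
      | false =>
        refine ⟨rfl, ?_⟩
        rw [hb] at hne
        simp [D.frame.fe] at hne
        by_contra hjj
        have hlt : ((w.1 j : Fin m) : ℕ) < n := by
          have : ((w.1 j : Fin m) : ℕ) ≠ (j : ℕ) := fun e => hjj (Fin.ext e)
          rw [hne.1] at this ⊢
          omega
        exact hjj (w.1.injective (ih _ hlt _ rfl).2)
  refine Prod.ext (Equiv.ext fun j => (key _ j rfl).2) (funext fun j => (key _ j rfl).1)

theorem chamber_w₀ : D.chamber w₀ = D.o₀ := Ch.ext rfl

theorem apt_opp {o : Ch P m} (ho : D.Opp o) [Decidable (o = D.o₀)] :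
    D.apt o = if o = D.o₀ then sgn (w₀ : Apt m) else 0 := by
  classical
  unfold apt
  split_ifs with h
  · subst h
    rw [Finset.sum_eq_single w₀ (fun w _ hw => if_neg fun (e : D.chamber w = D.o₀) => hw (D.chamber_opp (e ▸ ho))) (by simp),
      if_pos D.chamber_w₀]
  · exact Finset.sum_eq_zero fun w _ => if_neg fun e => by
      have hw := D.chamber_opp (e ▸ ho)
      rw [hw, D.chamber_w₀] at e
      exact h e.symm

/-- Evaluation at the opposite chambers. -/
noncomputable def evalOpp : stMod P m →ₗ[ℂ] ({o : Ch P m // D.Opp o} → ℂ) where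
  toFun f o := (f : Ch P m → ℂ) o
  map_add' _ _ := rfl
  map_smul' _ _ := rfl

theorem evalOpp_bijective : Function.Bijective D.evalOpp := by
  classical
  refine ⟨?_, ?_⟩
  · rw [← LinearMap.ker_eq_bot, LinearMap.ker_eq_bot']
    exact fun f hf => Subtype.ext (D.eq_zero_of_opp f.2 fun o ho => congrFun hf ⟨o, ho⟩)
  · haveI := Fintype.ofFinite {o : Ch P m // D.Opp o}
    rw [← LinearMap.range_eq_top, eq_top_iff, ← (Pi.basisFun ℂ {o : Ch P m // D.Opp o}).span_eq,
      Submodule.span_le]
    rintro _ ⟨⟨o, ho⟩, rfl⟩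
    obtain ⟨u, hu, huo⟩ := D.exists_U o ho
    refine ⟨(sgn (w₀ : Apt m))⁻¹ • ⟨fun c => D.apt (u⁻¹ • c), comp_smul_mem D.apt_mem u⁻¹⟩, ?_⟩
    funext o'
    rw [map_smul, Pi.smul_apply, Pi.basisFun_apply, smul_eq_mul]
    show (sgn (w₀ : Apt m))⁻¹ * D.apt (u⁻¹ • (o' : Ch P m)) = _
    rw [D.apt_opp (D.opp_smul (D.U_fix (D.U.inv_mem hu)) o'.2)]
    by_cases h : o' = ⟨o, ho⟩
    · rw [h, if_pos (by rw [inv_smul_eq_iff, huo]), inv_mul_cancel₀ (sgn_ne _), Pi.single_eq_same]
    · rw [if_neg (fun e => h (Subtype.ext (by rw [inv_smul_eq_iff] at e; rw [e, huo]))), mul_zero,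
        Pi.single_eq_of_ne h]

theorem finrank_stMod : finrank ℂ (stMod P m) = Nat.card {o : Ch P m // D.Opp o} := by
  haveI := Fintype.ofFinite {o : Ch P m // D.Opp o}
  rw [(LinearEquiv.ofBijective D.evalOpp D.evalOpp_bijective).finrank_eq,
    Module.finrank_fintype_fun_eq_card, Nat.card_eq_fintype_card]

end Setup

end Cfsg.Lib.Linear.Steinberg
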