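import Cfsg.Agent.Lib.Linear.Steinberg.Climb

/-!
# The opposite chambers

Frames of opposite chambers, the unitriangular isometries, and their regular action on the chambers
opposite to the base chamber.
-/

set_option autoImplicit false
set_option linter.unusedSectionVars false

namespace Cfsg.Lib.Linear.Steinberg

open Module

variable {F V : Type*} [Field F] [AddCommGroup V] [Module F V] [FiniteDimensional F V]
  {P : Polar F V} {m : ℕ}

/-- Dual families give vectors with prescribed values. -/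
theorem exists_dual {k : ℕ} (W : Submodule F V) (hW : finrank F W = k) (ψ : Fin k → V →ₗ[F] F)
    (hinj : ∀ x ∈ W, (∀ i, ψ i x = 0) → x = 0) (y : Fin k → F) :
    ∃ x ∈ W, ∀ i, ψ i x = y i := by
  let T : W →ₗ[F] (Fin k → F) := (LinearMap.pi ψ).comp W.subtype
  have hT : Function.Injective T := by
    rw [← LinearMap.ker_eq_bot, LinearMap.ker_eq_bot']
    exact fun x hx => Subtype.ext (hinj x x.2 fun i => congrFun hx i)
  obtain ⟨x, hx⟩ := (LinearMap.injective_iff_surjective_of_finrank_eq_finrank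
    (by rw [hW, Module.finrank_fin_fun])).1 hT y
  exact ⟨x, x.2, fun i => congrFun hx i⟩

namespace Ch

/-- The span of the first members of a family. -/
def spanLT {i : Fin (m + 1)} (v : Fin m → V) : Submodule F V :=
  Submodule.span F (Set.range fun j : Fin (i : ℕ) => v (j.castLE (Nat.le_of_lt_succ i.isLt)))

theorem mem_spanLT {i : Fin (m + 1)} {v : Fin m → V} {j : Fin m} (h : (j : ℕ) < i) :
    v j ∈ spanLT (F := F) (i := i) v :=
  Submodule.subset_span ⟨⟨j, h⟩, rfl⟩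

theorem spanLT_eq_image (i : Fin (m + 1)) (v : Fin m → V) :
    spanLT (F := F) (i := i) v = Submodule.span F (v '' {j | (j : ℕ) < i}) := by
  rw [spanLT]
  congr 1
  ext x
  constructor
  · rintro ⟨j, rfl⟩; exact ⟨_, j.isLt, rfl⟩
  · rintro ⟨j, hj, rfl⟩; exact ⟨⟨j, hj⟩, rfl⟩

theorem eq_zero_of_dual {v u : Fin m → V} (h0 : ∀ j k, j ≠ k → P.β (v j) (u k) = 0)
    (h1 : ∀ j, P.β (v j) (u j) ≠ 0) {i : Fin (m + 1)} {x : V} (hx : x ∈ spanLT (F := F) (i := i) v)
    (hu : ∀ j : Fin m, (j : ℕ) < i → P.β x (u j) = 0) : x = 0 := by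
  obtain ⟨c, rfl⟩ := (Submodule.mem_span_range_iff_exists_fun F).1 hx
  refine Finset.sum_eq_zero fun j _ => ?_
  have := hu (j.castLE (Nat.le_of_lt_succ i.isLt)) j.isLt
  rw [P.sum_left, Finset.sum_eq_single j, P.smul_left, mul_eq_zero] at this
  · rw [this.resolve_right (h1 _), zero_smul]
  · intro l _ hl
    rw [P.smul_left, h0 _ _ (fun e => hl (Fin.castLE_injective _ e)), mul_zero]
  · simp

/-- The flag spanned by a family of perpendicular singular vectors with a dual family. -/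
def ofFamily (v u : Fin m → V) (hN : ∀ j, P.N (v j) = 0) (hv : ∀ j k, P.β (v j) (v k) = 0)
    (h0 : ∀ j k, j ≠ k → P.β (v j) (u k) = 0) (h1 : ∀ j, P.β (v j) (u j) ≠ 0) : Ch P m where
  W i := spanLT (F := F) (i := i) v
  rk i := by
    rw [spanLT, finrank_span_eq_card, Fintype.card_fin]
    rw [Fintype.linearIndependent_iff]
    intro c hc j
    have hz := congrArg (P.βl (u (j.castLE (Nat.le_of_lt_succ i.isLt)))) hc
    rw [map_sum, map_zero, Finset.sum_eq_single j, map_smul, smul_eq_mul, Polar.βl_apply,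
      mul_eq_zero] at hz
    · exact hz.resolve_right (h1 _)
    · intro l _ hl
      rw [map_smul, Polar.βl_apply, h0 _ _ (fun e => hl (Fin.castLE_injective _ e)), smul_zero]
    · simp
  mono i i' h := by
    refine Submodule.span_le.2 ?_
    rintro _ ⟨j, rfl⟩
    exact mem_spanLT (by
      have := Fin.le_def.1 h
      simp
      omega)
  ts i := P.isTS_span (by rintro _ ⟨j, rfl⟩; exact hN _) (by rintro _ ⟨j, rfl⟩ _ ⟨k, rfl⟩; exact hv _ _)

instance : SMul P.iso (Ch P m) where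
  smul g c :=
    { W := fun i => (c.W i).map ((g : V ≃ₗ[F] V) : V →ₗ[F] V)
      rk := fun i => by rw [LinearEquiv.finrank_map_eq]; exact c.rk i
      mono := fun i j h => Submodule.map_mono (c.mono h)
      ts := fun i => by
        refine ⟨?_, ?_⟩
        · rintro _ ⟨x, hx, rfl⟩
          exact (P.iso_N g.2 x).trans ((c.ts i).1 x hx)
        · rintro _ ⟨x, hx, rfl⟩ _ ⟨y, hy, rfl⟩
          exact (P.iso_β g.2 x y).trans ((c.ts i).2 x hx y hy) }

theorem smul_W (g : P.iso) (c : Ch P m) (i : Fin (m + 1)) :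
    (g • c).W i = (c.W i).map ((g : V ≃ₗ[F] V) : V →ₗ[F] V) := rfl

instance : MulAction P.iso (Ch P m) where
  one_smul c := Ch.ext (funext fun i => Submodule.map_id (c.W i))
  mul_smul g h c := Ch.ext (funext fun i => by
    rw [smul_W, smul_W, smul_W, ← Submodule.map_comp]; rfl)

theorem mem_smul {g : P.iso} {c : Ch P m} {i : Fin (m + 1)} {x : V} (hx : x ∈ c.W i) :
    (g : V ≃ₗ[F] V) x ∈ (g • c).W i := ⟨x, hx, rfl⟩

theorem ext_of_le {c c' : Ch P m} (h : ∀ i, c.W i ≤ c'.W i) : c = c' :=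
  Ch.ext (funext fun i => Submodule.eq_of_le_of_finrank_eq (h i) (by rw [c.rk, c'.rk]))

theorem adj_smul {g : P.iso} {c c' : Ch P m} {k : Fin m} (h : c.Adj k c') :
    (g • c).Adj k (g • c') := fun j hj => by rw [smul_W, smul_W, h j hj]

end Ch

namespace Setup

variable (D : Setup P m)

/-- The base chamber. -/
def c₀ : Ch P m :=
  Ch.ofFamily D.e D.f D.frame.Ne D.frame.ee (fun j k h => by rw [D.frame.ef, if_neg h])
    fun j => by rw [D.frame.ef, if_pos rfl]; exact one_ne_zero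

theorem c₀_W (i : Fin (m + 1)) : (D.c₀).W i = D.E i := Ch.spanLT_eq_image i D.e

theorem finrank_E (j : Fin m) : finrank F (D.E ((j : ℕ) + 1)) = (j : ℕ) + 1 := by
  have := (D.c₀).rk j.succ
  rwa [D.c₀_W, Fin.val_succ] at this

/-- The standard opposite chamber. -/
def o₀ : Ch P m :=
  Ch.ofFamily D.f D.e D.frame.Nf D.frame.ff (fun j k h => by rw [D.frame.fe, if_neg h])
    fun j => by rw [D.frame.fe, if_pos rfl]; exact P.ε_ne

theorem opp_o₀ : D.Opp D.o₀ := fun _ _ hw h =>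
  Ch.eq_zero_of_dual (fun j k h => by rw [D.frame.fe, if_neg h])
    (fun j => by rw [D.frame.fe, if_pos rfl]; exact P.ε_ne) hw h

theorem β_E_perp {i : ℕ} {x : V} (hx : x ∈ D.E i) {y : V}
    (hy : ∀ a : Fin m, (a : ℕ) < i → P.β (D.e a) y = 0) : P.β x y = 0 := by
  induction hx using Submodule.span_induction with
  | mem a ha => obtain ⟨l, hl, rfl⟩ := ha; exact hy l hl
  | zero => exact P.zero_left _
  | add b c _ _ i1 i2 => rw [P.add_left, i1, i2, add_zero]
  | smul c b _ i1 => rw [P.smul_left, i1, mul_zero]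

theorem mem_E_perp {i : ℕ} {x : V} (hx : x ∈ D.E (i + 1)) (hi : i < m)
    (h : P.β x (D.f ⟨i, hi⟩) = 0) : x ∈ D.E i :=
  D.mem_E_of_perp ((D.isTS_E _).1 x hx) (D.E_βe hx) fun j hj => by
    rcases hj.eq_or_lt with e | hj
    · rwa [show j = ⟨i, hi⟩ from Fin.ext e.symm]
    · exact D.E_βf hx hj

include D in
theorem εσ_one (j : Fin m) : P.ε * P.σ P.ε = 1 := by
  have h := D.frame.ef j j
  rwa [P.herm (D.f j) (D.e j), D.frame.fe, if_pos rfl, if_pos rfl] at h

/-- An opposite chamber carries a frame adapted to the base flag. -/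
theorem exists_frame (o : Ch P m) (ho : D.Opp o) : ∃ e' f' : Fin m → V, P.IsFrame e' f' ∧
    (∀ j : Fin m, e' j - D.e j ∈ D.E (j : ℕ)) ∧ (∀ j, f' j ∈ o.W j.succ) := by
  have hex : ∀ j : Fin m, ∃ x ∈ o.W j.succ, ∀ a : Fin ((j : ℕ) + 1),
      P.β x (D.e (a.castLE j.isLt)) = if (a : ℕ) = (j : ℕ) then P.ε else 0 := fun j =>
    exists_dual (o.W j.succ) (by rw [o.rk]; rfl) (fun a => P.βl (D.e (a.castLE j.isLt)))
      (fun x hx h => ho j.succ x hx fun l hl => h ⟨l, hl⟩) _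
  choose f' hf' hfe using hex
  have hf0 : ∀ j a : Fin m, (a : ℕ) < j → P.β (D.e a) (f' j) = 0 := fun j a h => by
    refine P.zero_comm ?_
    have := hfe j ⟨a, by omega⟩
    rwa [if_neg (by simp; omega)] at this
  have hf1 : ∀ j : Fin m, P.β (D.e j) (f' j) = 1 := fun j => by
    have h2 : P.β (f' j) (D.e j) = P.ε := (hfe j ⟨j, Nat.lt_succ_self _⟩).trans (if_pos rfl)
    rw [P.herm (f' j) (D.e j), h2, D.εσ_one j]
  have hinjE : ∀ j : Fin m, ∀ x ∈ D.E ((j : ℕ) + 1),
      (∀ a : Fin ((j : ℕ) + 1), P.β x (f' (a.castLE j.isLt)) = 0) → x = 0 := by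
    intro j x hx h
    have : ∀ n, ∀ x ∈ D.E n, n ≤ (j : ℕ) + 1 →
        (∀ a : Fin ((j : ℕ) + 1), P.β x (f' (a.castLE j.isLt)) = 0) → x = 0 := by
      intro n
      induction n with
      | zero => intro x hx _ _; rwa [D.E_zero, Submodule.mem_bot] at hx
      | succ n ih =>
        intro x hx hn h
        have hnm : n < m := by omega
        refine ih x (D.mem_E_perp hx hnm ?_) (by omega) h
        set c := P.β x (D.f ⟨n, hnm⟩) with hc
        have hy : x - c • D.e ⟨n, hnm⟩ ∈ D.E n := by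
          refine D.mem_E_perp (Submodule.sub_mem _ hx (Submodule.smul_mem _ _ (D.e_mem_E (Nat.lt_succ_self n)))) hnm ?_
          rw [P.sub_left, P.smul_left, D.frame.ef, if_pos rfl, mul_one, hc, sub_self]
        have h0 : P.β (x - c • D.e ⟨n, hnm⟩) (f' ⟨n, hnm⟩) = 0 :=
          D.β_E_perp hy fun a ha => hf0 _ a ha
        have h1 : P.β x (f' ⟨n, hnm⟩) = 0 := h ⟨n, by omega⟩
        rw [P.sub_left, h1, P.smul_left, hf1, mul_one, zero_sub, neg_eq_zero] at h0
        exact h0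
    exact this _ x hx le_rfl h
  have hex' : ∀ j : Fin m, ∃ x ∈ D.E ((j : ℕ) + 1), ∀ a : Fin ((j : ℕ) + 1),
      P.β x (f' (a.castLE j.isLt)) = if (a : ℕ) = (j : ℕ) then 1 else 0 := fun j =>
    exists_dual _ (D.finrank_E j) (fun a => P.βl (f' (a.castLE j.isLt))) (hinjE j) _
  choose e' he' hef using hex'
  have hEm : ∀ j, e' j ∈ D.E m := fun j => D.E_mono j.isLt (he' j)
  have hfj : ∀ j k, P.β (f' j) (f' k) = 0 := fun j k => by
    rcases le_total j k with h | h
    · exact (o.ts k.succ).2 _ (o.mono (Fin.succ_le_succ_iff.2 h) (hf' j)) _ (hf' k)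
    · exact (o.ts j.succ).2 _ (hf' j) _ (o.mono (Fin.succ_le_succ_iff.2 h) (hf' k))
  refine ⟨e', f', ⟨fun i j => (D.isTS_E m).2 _ (hEm i) _ (hEm j), hfj, fun i j => ?_,
    fun i => (D.isTS_E m).1 _ (hEm i), fun i => (o.ts _).1 _ (hf' i)⟩, fun j => ?_, hf'⟩
  · rcases lt_trichotomy (i : ℕ) (j : ℕ) with h | h | h
    · rw [if_neg (fun e => by rw [e] at h; exact lt_irrefl _ h)]
      exact D.β_E_perp (he' i) fun a ha => hf0 j a (by omega)
    · obtain rfl : i = j := Fin.ext h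
      rw [if_pos rfl]
      exact (hef i ⟨i, Nat.lt_succ_self _⟩).trans (if_pos rfl)
    · rw [if_neg (fun e => by rw [e] at h; exact lt_irrefl _ h)]
      exact (hef i ⟨j, by omega⟩).trans (if_neg (by simp; omega))
  · set c := P.β (e' j) (D.f j) with hc
    have hy : e' j - c • D.e j ∈ D.E j := by
      refine D.mem_E_perp (Submodule.sub_mem _ (he' j) (Submodule.smul_mem _ _ (D.e_mem_E (Nat.lt_succ_self _)))) j.isLt ?_
      rw [Fin.eta, P.sub_left, P.smul_left, D.frame.ef, if_pos rfl, mul_one, hc, sub_self]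
    have h0 : P.β (e' j - c • D.e j) (f' j) = 0 := D.β_E_perp hy fun a ha => hf0 _ a ha
    have h1 : P.β (e' j) (f' j) = 1 := (hef j ⟨j, Nat.lt_succ_self _⟩).trans (if_pos rfl)
    rw [P.sub_left, h1, P.smul_left, hf1, mul_one, sub_eq_zero] at h0
    rwa [← h0, one_smul] at hy

theorem frame_expand {e' f' : Fin m → V} (h : P.IsFrame e' f') (p r p' r' : Fin m → F) {a b : V}
    (ha : ∀ j, P.β a (e' j) = 0 ∧ P.β a (f' j) = 0) (hb : ∀ j, P.β b (e' j) = 0 ∧ P.β b (f' j) = 0) :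
    P.β ((∑ i, p i • e' i + ∑ i, r i • f' i) + a) ((∑ i, p' i • e' i + ∑ i, r' i • f' i) + b) =
        ∑ i, p i * P.σ (r' i) + ∑ i, r i * (P.σ (p' i) * P.ε) + P.β a b ∧
      P.N ((∑ i, p i • e' i + ∑ i, r i • f' i) + a) = P.φ (∑ i, p i * P.σ (r i)) + P.N a := by
  have hb' : ∀ j, P.β (e' j) b = 0 ∧ P.β (f' j) b = 0 := fun j =>
    ⟨P.zero_comm (hb j).1, P.zero_comm (hb j).2⟩
  refine ⟨?_, ?_⟩
  · simp [P.add_left, P.add_right, P.sum_left, P.sum_right, P.smul_left, P.smul_right, h.ee, h.ff,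
      h.ef, h.fe, ha, hb', mul_comm, mul_left_comm, Finset.sum_comm (γ := Fin m)]
  · have hTe : P.N (∑ i, p i • e' i) = 0 := by
      have := (P.isTS_span (s := Set.range e') (by rintro _ ⟨i, rfl⟩; exact h.Ne i)
        (by rintro _ ⟨i, rfl⟩ _ ⟨j, rfl⟩; exact h.ee i j))
      exact this.1 _ (Submodule.sum_mem _ fun i _ => Submodule.smul_mem _ _ (Submodule.subset_span ⟨i, rfl⟩))
    have hTf : P.N (∑ i, r i • f' i) = 0 := by
      have := (P.isTS_span (s := Set.range f') (by rintro _ ⟨i, rfl⟩; exact h.Nf i)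
        (by rintro _ ⟨i, rfl⟩ _ ⟨j, rfl⟩; exact h.ff i j))
      exact this.1 _ (Submodule.sum_mem _ fun i _ => Submodule.smul_mem _ _ (Submodule.subset_span ⟨i, rfl⟩))
    have hsa : P.β (∑ i, p i • e' i + ∑ i, r i • f' i) a = 0 := by
      simp [P.add_left, P.sum_left, P.smul_left, fun j => P.zero_comm (ha j).1, fun j => P.zero_comm (ha j).2]
    rw [P.N_add, hsa, P.φ_zero, add_zero, P.N_add, hTe, hTf, zero_add, zero_add]
    simp [P.sum_left, P.sum_right, P.smul_left, P.smul_right, h.ef]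

/-- A frame adapted to the base flag is the image of the base frame under an isometry. -/
theorem exists_iso {e' f' : Fin m → V} (h : P.IsFrame e' f') (he : ∀ j, e' j ∈ D.E m) :
    ∃ g : P.iso, (∀ j, (g : V ≃ₗ[F] V) (D.e j) = e' j) ∧ (∀ j, (g : V ≃ₗ[F] V) (D.f j) = f' j) ∧
      ∀ x, (∀ j, P.β x (D.e j) = 0) → (g : V ≃ₗ[F] V) x - x ∈ D.E m := by
  let pr : V → V := fun y => y - ∑ i, P.β y (f' i) • e' i
  have hpr : ∀ y, (∀ j, P.β y (D.e j) = 0) → ∀ j, P.β (pr y) (e' j) = 0 ∧ P.β (pr y) (f' j) = 0 := by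
    intro y hy j
    have : P.β y (e' j) = 0 := P.zero_comm (D.β_E_perp (he j) fun a _ => P.zero_comm (hy a))
    simp [pr, P.sub_left, P.sum_left, P.smul_left, h.ee, h.ef, this]
  let G0 : V →ₗ[F] V :=
    { toFun := fun x => (∑ i, P.β x (D.f i) • e' i + ∑ i, (P.ε⁻¹ * P.β x (D.e i)) • f' i) +
        pr (D.frame.anis x)
      map_add' := fun x y => by
        simp only [pr, Polar.IsFrame.anis, P.add_left, P.sub_left, P.sum_left, P.smul_left, mul_add,
          add_smul, Finset.sum_add_distrib, sub_smul, Finset.sum_sub_distrib, Finset.sum_smul]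
        abel
      map_smul' := fun c x => by
        simp only [pr, Polar.IsFrame.anis, P.sub_left, P.sum_left, P.smul_left, smul_add, smul_sub,
          Finset.smul_sum, smul_smul, RingHom.id_apply, mul_sub, Finset.mul_sum, mul_left_comm, mul_assoc] }
  have hG : ∀ x, G0 x = (∑ i, P.β x (D.f i) • e' i + ∑ i, (P.ε⁻¹ * P.β x (D.e i)) • f' i) +
      pr (D.frame.anis x) := fun _ => rfl
  have hanis : ∀ x (j : Fin m), P.β (D.frame.anis x) (D.e j) = 0 ∧ P.β (D.frame.anis x) (D.f j) = 0 :=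
    fun x j => ⟨D.frame.anis_e x j, D.frame.anis_f x j⟩
  have hA : ∀ x, ∀ j, P.β (pr (D.frame.anis x)) (e' j) = 0 ∧ P.β (pr (D.frame.anis x)) (f' j) = 0 :=
    fun x => hpr _ fun j => (hanis x j).1
  have hsE : ∀ y, ∑ i, P.β y (f' i) • e' i ∈ D.E m := fun y =>
    Submodule.sum_mem _ fun i _ => Submodule.smul_mem _ _ (he i)
  have hprβ : ∀ y z, (∀ j, P.β y (D.e j) = 0) → (∀ j, P.β z (D.e j) = 0) →
      P.β (pr y) (pr z) = P.β y z ∧ P.N (pr y) = P.N y := by
    intro y z hy hz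
    have h1 : ∀ w, (∀ j, P.β w (D.e j) = 0) → ∀ s ∈ D.E m, P.β s w = 0 := fun w hw s hs =>
      D.β_E_perp hs fun a _ => P.zero_comm (hw a)
    refine ⟨?_, ?_⟩
    · simp only [pr]
      rw [P.sub_left, P.sub_right, P.sub_right, P.zero_comm (h1 y hy _ (hsE z)), h1 z hz _ (hsE y),
        (D.isTS_E m).2 _ (hsE y) _ (hsE z)]
      ring
    · simp only [pr]
      rw [sub_eq_add_neg, P.N_add, (D.isTS_E m).1 _ (Submodule.neg_mem _ (hsE y)),
        P.zero_comm (h1 y hy _ (Submodule.neg_mem _ (hsE y))), P.φ_zero, add_zero, add_zero]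
  have hiso : (∀ x y, P.β (G0 x) (G0 y) = P.β x y) ∧ ∀ x, P.N (G0 x) = P.N x := by
    refine ⟨fun x y => ?_, fun x => ?_⟩
    · rw [hG, hG, (frame_expand h _ _ _ _ (hA x) (hA y)).1,
        (hprβ _ _ (fun j => (hanis x j).1) (fun j => (hanis y j).1)).1,
        ← (frame_expand D.frame _ _ _ _ (hanis x) (hanis y)).1, ← D.frame.decomp, ← D.frame.decomp]
    · rw [hG, (frame_expand h _ _ (fun _ => 0) (fun _ => 0) (hA x) (hA x)).2,
        (hprβ _ (D.frame.anis x) (fun j => (hanis x j).1) (fun j => (hanis x j).1)).2,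
        ← (frame_expand D.frame _ _ (fun _ => 0) (fun _ => 0) (hanis x) (hanis x)).2, ← D.frame.decomp]
  have hinj : Function.Injective G0 := by
    rw [← LinearMap.ker_eq_bot, LinearMap.ker_eq_bot']
    intro x hx
    rw [hG] at hx
    have hp : ∀ j, P.β x (D.f j) = 0 := fun j => by
      have := congrArg (P.βl (f' j)) hx
      simpa [P.add_left, P.zero_left, P.sum_left, P.smul_left, h.ef, h.ff, (hA x j).2] using this
    have hr : ∀ j, P.β x (D.e j) = 0 := fun j => by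
      have := congrArg (P.βl (e' j)) hx
      simpa [P.add_left, P.zero_left, P.sum_left, P.smul_left, h.ee, h.fe, (hA x j).1, P.ε_ne, hp] using this
    have ha : D.frame.anis x = x := by simp [Polar.IsFrame.anis, hp, hr]
    simp only [ha, hp, hr, zero_smul, mul_zero, Finset.sum_const_zero, zero_add, pr, sub_eq_zero] at hx
    exact D.aniso x hr hp (hx ▸ (D.isTS_E m).1 _ (hsE x))
  refine ⟨⟨LinearEquiv.ofBijective G0 ⟨hinj, LinearMap.injective_iff_surjective.1 hinj⟩, hiso⟩,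
    fun j => ?_, fun j => ?_, fun x hx => ?_⟩
  · show G0 (D.e j) = e' j
    simp [hG, pr, Polar.IsFrame.anis, D.frame.ef, D.frame.ee, P.zero_left]
  · show G0 (D.f j) = f' j
    simp [hG, pr, Polar.IsFrame.anis, D.frame.fe, D.frame.ff, P.ε_ne, P.zero_left]
  · show G0 x - x ∈ D.E m
    rw [hG]
    simp only [hx, mul_zero, zero_smul, Finset.sum_const_zero, add_zero]
    have hsub : D.frame.anis x - x ∈ D.E m := by
      simp [Polar.IsFrame.anis, hx]
      exact D.sum_mem_E _ fun j hj => absurd hj (not_le.2 j.isLt)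
    rw [show (∑ i, P.β x (D.f i) • e' i + pr (D.frame.anis x)) - x =
      (∑ i, P.β x (D.f i) • e' i - ∑ i, P.β (D.frame.anis x) (f' i) • e' i) + (D.frame.anis x - x) by
        simp only [pr]; abel]
    exact Submodule.add_mem _ (Submodule.sub_mem _ (Submodule.sum_mem _ fun i _ =>
      Submodule.smul_mem _ _ (he i)) (hsE _)) hsub

/-! ## The unitriangular group -/

theorem map_E_le {g : P.iso} (hg : ∀ j : Fin m, (g : V ≃ₗ[F] V) (D.e j) - D.e j ∈ D.E (j : ℕ)) (i : ℕ) {x : V}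
    (hx : x ∈ D.E i) : (g : V ≃ₗ[F] V) x ∈ D.E i := by
  induction hx using Submodule.span_induction with
  | mem a ha =>
    obtain ⟨l, hl, rfl⟩ := ha
    have := Submodule.add_mem _ (D.E_mono (le_of_lt hl) (hg l)) (D.e_mem_E hl)
    rwa [sub_add_cancel] at this
  | zero => rw [map_zero]; exact Submodule.zero_mem _
  | add b c _ _ i1 i2 => rw [map_add]; exact Submodule.add_mem _ i1 i2
  | smul c b _ i1 => rw [map_smul]; exact Submodule.smul_mem _ _ i1

theorem map_E_eq {g : P.iso} (hg : ∀ j : Fin m, (g : V ≃ₗ[F] V) (D.e j) - D.e j ∈ D.E (j : ℕ)) (i : ℕ) :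
    (D.E i).map ((g : V ≃ₗ[F] V) : V →ₗ[F] V) = D.E i := by
  refine Submodule.eq_of_le_of_finrank_eq ?_ (LinearEquiv.finrank_map_eq _ _)
  rintro _ ⟨x, hx, rfl⟩
  exact D.map_E_le hg i hx

/-- The unitriangular isometries. -/
def U : Subgroup P.iso where
  carrier := {g | (∀ j : Fin m, (g : V ≃ₗ[F] V) (D.e j) - D.e j ∈ D.E (j : ℕ)) ∧
    ∀ x, (∀ j, P.β x (D.e j) = 0) → (g : V ≃ₗ[F] V) x - x ∈ D.E m}
  one_mem' := ⟨fun j => by simp, fun x _ => by simp⟩
  mul_mem' := by
    intro a b ha hb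
    refine ⟨fun j => ?_, fun x hx => ?_⟩
    · have e : ((a * b : P.iso) : V ≃ₗ[F] V) (D.e j) - D.e j =
          (a : V ≃ₗ[F] V) ((b : V ≃ₗ[F] V) (D.e j) - D.e j) + ((a : V ≃ₗ[F] V) (D.e j) - D.e j) := by
        rw [map_sub]
        show (a : V ≃ₗ[F] V) ((b : V ≃ₗ[F] V) (D.e j)) - _ = _
        abel
      rw [e]
      exact Submodule.add_mem _ (D.map_E_le ha.1 _ (hb.1 j)) (ha.1 j)
    · have e : ((a * b : P.iso) : V ≃ₗ[F] V) x - x =
          (a : V ≃ₗ[F] V) ((b : V ≃ₗ[F] V) x - x) + ((a : V ≃ₗ[F] V) x - x) := by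
        rw [map_sub]
        show (a : V ≃ₗ[F] V) ((b : V ≃ₗ[F] V) x) - _ = _
        abel
      rw [e]
      exact Submodule.add_mem _ (D.map_E_le ha.1 _ (hb.2 x hx)) (ha.2 x hx)
  inv_mem' := by
    intro a ha
    have hinv : ∀ i {y}, y ∈ D.E i → ((a⁻¹ : P.iso) : V ≃ₗ[F] V) y ∈ D.E i := by
      intro i y hy
      obtain ⟨x, hx, rfl⟩ := (D.map_E_eq ha.1 i).symm ▸ hy
      rwa [show ((a⁻¹ : P.iso) : V ≃ₗ[F] V) (((a : V ≃ₗ[F] V) : V →ₗ[F] V) x) = x from
        (a : V ≃ₗ[F] V).symm_apply_apply x]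
    refine ⟨fun j => ?_, fun x hx => ?_⟩
    · have := Submodule.neg_mem _ (hinv _ (ha.1 j))
      rwa [map_sub, show ((a⁻¹ : P.iso) : V ≃ₗ[F] V) ((a : V ≃ₗ[F] V) (D.e j)) = D.e j from
        (a : V ≃ₗ[F] V).symm_apply_apply _, neg_sub] at this
    · set y := ((a⁻¹ : P.iso) : V ≃ₗ[F] V) x with hy
      have hay : (a : V ≃ₗ[F] V) y = x := (a : V ≃ₗ[F] V).apply_symm_apply x
      have hy' : ∀ j, P.β y (D.e j) = 0 := fun j => by
        rw [← P.iso_β a.2, hay]
        exact P.zero_comm (D.β_E_perp (D.map_E_le ha.1 _ (D.e_mem_E (Nat.lt_succ_self _)))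
          fun l _ => P.zero_comm (hx l))
      have := ha.2 y hy'
      rw [hay] at this
      simpa using Submodule.neg_mem _ this

theorem U_fix {g : P.iso} (hg : g ∈ D.U) : g • D.c₀ = D.c₀ :=
  Ch.ext (funext fun i => by rw [Ch.smul_W, D.c₀_W]; exact D.map_E_eq hg.1 i)

/-- The stabiliser of the base chamber preserves opposition. -/
theorem opp_smul {g : P.iso} (hg : g • D.c₀ = D.c₀) {o : Ch P m} (ho : D.Opp o) : D.Opp (g • o) := by
  rintro i _ ⟨x, hx, rfl⟩ hperp
  have : x = 0 := by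
    refine ho i x hx fun j hj => ?_
    rw [← P.iso_β g.2]
    refine P.zero_comm (D.β_E_perp (i := (i : ℕ)) ?_ fun a ha => P.zero_comm (hperp a ha))
    rw [← D.c₀_W i, ← hg, Ch.smul_W]
    exact ⟨_, (D.c₀_W i).symm ▸ D.e_mem_E hj, rfl⟩
  rw [this, map_zero]

theorem exists_U (o : Ch P m) (ho : D.Opp o) : ∃ u ∈ D.U, u • D.o₀ = o := by
  obtain ⟨e', f', h, he, hf⟩ := D.exists_frame o ho
  have heE : ∀ j, e' j ∈ D.E m := fun j => by
    have := Submodule.add_mem _ (D.E_mono (le_of_lt j.isLt) (he j)) (D.e_mem_E j.isLt)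
    rwa [sub_add_cancel] at this
  obtain ⟨g, hge, hgf, hgx⟩ := D.exists_iso h heE
  refine ⟨g, ⟨fun j => by rw [hge]; exact he j, hgx⟩, Ch.ext_of_le fun i => ?_⟩
  rw [Ch.smul_W, show (D.o₀).W i = Ch.spanLT (F := F) (i := i) D.f from rfl, Ch.spanLT, Submodule.map_span,
    Submodule.span_le]
  rintro _ ⟨_, ⟨j, rfl⟩, rfl⟩
  show (g : V ≃ₗ[F] V) _ ∈ o.W i
  rw [hgf]
  exact o.mono (Fin.le_def.2 (by simp)) (hf _)

/-- An element fixing `e` and the standard opposite chamber fixes `f`. -/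
theorem fix_f {g : P.iso} (hge : ∀ j, (g : V ≃ₗ[F] V) (D.e j) = D.e j) (hgo : g • D.o₀ = D.o₀)
    (j : Fin m) : (g : V ≃ₗ[F] V) (D.f j) = D.f j := by
  have h1 : (g : V ≃ₗ[F] V) (D.f j) - D.f j ∈ (D.o₀).W j.succ := by
    refine Submodule.sub_mem _ ?_ (Ch.mem_spanLT (Nat.lt_succ_self _))
    have hmem := Ch.mem_smul (g := g) (c := D.o₀) (i := j.succ) (x := D.f j)
      (Ch.mem_spanLT (Nat.lt_succ_self _))
    rwa [hgo] at hmem
  refine sub_eq_zero.1 (D.opp_o₀ j.succ _ h1 fun l _ => ?_)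
  rw [P.sub_left]
  nth_rewrite 1 [← hge l]
  rw [P.iso_β g.2, sub_self]

/-- A triangular element fixing the standard opposite chamber fixes `e`. -/
theorem fix_e {g : P.iso} (hg : ∀ j : Fin m, (g : V ≃ₗ[F] V) (D.e j) - D.e j ∈ D.E (j : ℕ))
    (hgo : g • D.o₀ = D.o₀) : ∀ j, (g : V ≃ₗ[F] V) (D.e j) = D.e j := by
  intro j
  have hd := hg j
  set d := (g : V ≃ₗ[F] V) (D.e j) - D.e j
  refine sub_eq_zero.1 (?_ : d = 0)
  have hz : ∀ l : Fin m, (l : ℕ) < j → P.β d (D.f l) = 0 := by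
    intro l hl
    obtain ⟨y, hy, hyl⟩ : ∃ y ∈ (D.o₀).W l.succ, (g : V ≃ₗ[F] V) y = D.f l := by
      have : D.f l ∈ (g • D.o₀).W l.succ := hgo.symm ▸ Ch.mem_spanLT (Nat.lt_succ_self _)
      obtain ⟨y, hy, e⟩ := this
      exact ⟨y, hy, e⟩
    show P.β ((g : V ≃ₗ[F] V) (D.e j) - D.e j) (D.f l) = 0
    rw [P.sub_left]
    nth_rewrite 1 [← hyl]
    rw [P.iso_β g.2, D.frame.ef, if_neg (fun e => by rw [e] at hl; exact lt_irrefl _ hl), sub_zero]
    refine P.zero_comm ?_
    obtain ⟨c, rfl⟩ := (Submodule.mem_span_range_iff_exists_fun F).1 hy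
    rw [P.sum_left]
    refine Finset.sum_eq_zero fun a _ => ?_
    rw [P.smul_left, D.frame.fe, if_neg (fun e => by
      have := congrArg Fin.val e
      have := a.isLt
      simp at *; omega), mul_zero]
  have hmem : d ∈ D.E 0 := D.mem_E_of_perp ((D.isTS_E _).1 d hd) (D.E_βe hd) fun l _ => by
    rcases lt_or_ge (l : ℕ) (j : ℕ) with hl | hl
    · exact hz l hl
    · exact D.E_βf hd hl
  rwa [D.E_zero, Submodule.mem_bot] at hmem

theorem U_free {g : P.iso} (hg : g ∈ D.U) (hgo : g • D.o₀ = D.o₀) : g = 1 := by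
  have hge := D.fix_e hg.1 hgo
  have hgf := D.fix_f hge hgo
  refine Subtype.ext (LinearEquiv.ext fun x => ?_)
  show (g : V ≃ₗ[F] V) x = x
  have ha : (g : V ≃ₗ[F] V) (D.frame.anis x) = D.frame.anis x := by
    have hd := hg.2 _ (D.frame.anis_e x)
    have hmem : (g : V ≃ₗ[F] V) (D.frame.anis x) - D.frame.anis x ∈ D.E 0 :=
      D.mem_E_of_perp ((D.isTS_E _).1 _ hd) (D.E_βe hd) fun l _ => by
        rw [P.sub_left, D.frame.anis_f, sub_zero]
        nth_rewrite 1 [← hgf l]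
        rw [P.iso_β g.2, D.frame.anis_f]
    rwa [D.E_zero, Submodule.mem_bot, sub_eq_zero] at hmem
  conv_lhs => rw [D.frame.decomp x]
  conv_rhs => rw [D.frame.decomp x]
  simp only [map_add, map_sum, map_smul, hge, hgf, ha]

theorem card_U : Nat.card D.U = Nat.card {o : Ch P m // D.Opp o} := by
  refine Nat.card_congr (Equiv.ofBijective
    (fun u : D.U => (⟨(u : P.iso) • D.o₀, D.opp_smul (D.U_fix u.2) D.opp_o₀⟩ : {o : Ch P m // D.Opp o}))
    ⟨fun a b hab => ?_, fun o => ?_⟩)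
  · have h : ((b⁻¹ * a : D.U) : P.iso) • D.o₀ = D.o₀ := by
      have := congrArg Subtype.val hab
      simp only [Subgroup.coe_mul, Subgroup.coe_inv, mul_smul] at this ⊢
      rw [this, inv_smul_smul]
    exact (inv_mul_eq_one.1 (Subtype.ext (D.U_free (b⁻¹ * a).2 h))).symm
  · obtain ⟨u, hu, h⟩ := D.exists_U o o.2 
    exact ⟨⟨u, hu⟩, Subtype.ext h⟩

theorem nilpotent_step {g : P.iso} (hg : g ∈ D.U) :
    ((((g : V ≃ₗ[F] V) : V →ₗ[F] V) - 1 : Module.End F V)) ^ (2 * m + 1) = 0 := by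
  set N : Module.End F V := ((g : V ≃ₗ[F] V) : V →ₗ[F] V) - 1
  have hN : ∀ x, N x = (g : V ≃ₗ[F] V) x - x := fun _ => rfl
  have hlow : ∀ k, ∀ x ∈ D.E k, (N ^ k) x = 0 := by
    intro k
    induction k with
    | zero => intro x hx; rwa [D.E_zero, Submodule.mem_bot] at hx
    | succ k ih =>
      intro x hx
      rw [pow_succ, Module.End.mul_apply]
      refine ih _ ?_
      induction hx using Submodule.span_induction with
      | mem a ha =>
        obtain ⟨l, hl, rfl⟩ := ha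
        exact D.E_mono (Nat.le_of_lt_succ hl) (hg.1 l)
      | zero => rw [map_zero]; exact Submodule.zero_mem _
      | add b c _ _ i1 i2 => rw [map_add]; exact Submodule.add_mem _ i1 i2
      | smul c b _ i1 => rw [map_smul]; exact Submodule.smul_mem _ _ i1
  have hhigh : ∀ t ≤ m, ∀ x, (∀ j : Fin m, (j : ℕ) + t < m → P.β x (D.e j) = 0) →
      (N ^ (t + (1 + m))) x = 0 := by
    intro t
    induction t with
    | zero =>
      intro _ x hx
      rw [zero_add, add_comm, pow_succ, Module.End.mul_apply]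
      exact hlow m _ (hg.2 x fun j => hx j (by simp))
    | succ t ih =>
      intro ht x hx
      rw [show t + 1 + (1 + m) = t + (1 + m) + 1 by omega, pow_succ, Module.End.mul_apply]
      refine ih (by omega) _ fun j hj => ?_
      have hinv := (D.U.inv_mem hg).1 j
      rw [hN, P.sub_left]
      have e : P.β ((g : V ≃ₗ[F] V) x) (D.e j) = P.β x (((g⁻¹ : P.iso) : V ≃ₗ[F] V) (D.e j)) := by
        conv_lhs => rw [← (g : V ≃ₗ[F] V).apply_symm_apply (D.e j)]
        exact P.iso_β g.2 _ _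
      rw [e, ← P.sub_right]
      refine P.zero_comm (D.β_E_perp hinv fun a ha => P.zero_comm (hx a (by omega)))
  refine LinearMap.ext fun x => ?_
  rw [show 2 * m + 1 = m + (1 + m) by omega]
  exact hhigh m le_rfl x fun j hj => absurd hj (by omega)

theorem isPGroup_U (p : ℕ) [Fact p.Prime] [CharP F p] : IsPGroup p D.U := by
  intro g
  obtain ⟨r, hr⟩ : ∃ r, 2 * m + 1 ≤ p ^ r :=
    ⟨2 * m + 1, (Nat.lt_pow_self (Fact.out : p.Prime).one_lt).le⟩
  refine ⟨r, ?_⟩
  rcases subsingleton_or_nontrivial V with hV | hV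
  · exact Subtype.ext (Subtype.ext (LinearEquiv.ext fun x => Subsingleton.elim _ _))
  haveI : CharP (Module.End F V) p :=
    charP_of_injective_algebraMap (algebraMap F (Module.End F V)).injective p
  set N : Module.End F V := (((g : P.iso) : V ≃ₗ[F] V) : V →ₗ[F] V) - 1 with hN
  have h0 : N ^ (p ^ r) = 0 := by
    obtain ⟨c, hc⟩ := Nat.exists_eq_add_of_le hr
    rw [hc, pow_add, D.nilpotent_step g.2, zero_mul]
  have h1 : (N + 1) ^ (p ^ r) = 1 := by
    rw [add_pow_char_pow_of_commute (p := p) (n := r) (h := Commute.one_right N), h0, one_pow, zero_add]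
  rw [hN, sub_add_cancel] at h1
  refine Subtype.ext (Subtype.ext (LinearEquiv.ext fun x => ?_))
  have h2 : (((g ^ (p ^ r) : D.U) : P.iso) : V ≃ₗ[F] V) x =
      (((((g : P.iso) : V ≃ₗ[F] V) : V →ₗ[F] V) : Module.End F V) ^ (p ^ r)) x := by
    rw [SubmonoidClass.coe_pow, SubmonoidClass.coe_pow]
    induction p ^ r with
    | zero => rfl
    | succ k ih => rw [pow_succ', pow_succ', Module.End.mul_apply, LinearEquiv.mul_apply, ih]; rfl
  rw [h2, h1]
  rfl

end Setup

end Cfsg.Lib.Linear.Steinberg
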