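import Cfsg.Agent.Lib.Linear.Steinberg.Main
import Cfsg.Agent.Lib.Linear.OrthSmallIso
import Cfsg.Agent.Lib.Linear.OrthParity
import Cfsg.Agent.Lib.Linear.OrthSpinor

/-!
# The orthogonal instances, common part
-/

set_option autoImplicit false
set_option linter.unusedSectionVars false

namespace Cfsg.Lib.Linear.Steinberg

open Cfsg.Lib.Linear.Orth
open scoped Matrix

variable {ι : Type} [Fintype ι] [DecidableEq ι] {F : Type*} [Field F]
  {Q : (ι → F) → F} {B : LinearMap.BilinForm F (ι → F)}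

/-- An invertible matrix as a linear equivalence. -/
noncomputable def glLin : GL ι F →* ((ι → F) ≃ₗ[F] (ι → F)) where
  toFun g := LinearEquiv.ofLinear (Matrix.toLin' g.val) (Matrix.toLin' (g⁻¹ : GL ι F).val)
    (by rw [← Matrix.toLin'_mul, ← Units.val_mul, mul_inv_cancel, Units.val_one, Matrix.toLin'_one])
    (by rw [← Matrix.toLin'_mul, ← Units.val_mul, inv_mul_cancel, Units.val_one, Matrix.toLin'_one])
  map_one' := LinearEquiv.ext fun x => by simp
  map_mul' g h := LinearEquiv.ext fun x => (Matrix.mulVec_mulVec x _ _).symm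

theorem glLin_apply (g : GL ι F) (x : ι → F) : glLin g x = g.val *ᵥ x := rfl

theorem glLin_injective : Function.Injective (glLin (ι := ι) (F := F)) := fun _ _ h =>
  gl_ext fun x => LinearEquiv.congr_fun h x

theorem glLin_surjective : Function.Surjective (glLin (ι := ι) (F := F)) := fun g => by
  have h1 : LinearMap.toMatrix' (g : (ι → F) →ₗ[F] (ι → F)) * LinearMap.toMatrix' (g.symm : (ι → F) →ₗ[F] (ι → F)) = 1 := by
    rw [← LinearMap.toMatrix'_comp, LinearEquiv.comp_symm, LinearMap.toMatrix'_id]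
  refine ⟨toGL (LinearMap.toMatrix' (g : (ι → F) →ₗ[F] (ι → F))), LinearEquiv.ext fun x => ?_⟩
  rw [glLin_apply, toGL_val h1, ← Matrix.toLin'_apply, Matrix.toLin'_toMatrix']
  rfl

/-- The polar space of a quadratic form. -/
def orthPolar (C : Space Q B) : Polar F (ι → F) where
  σ := RingHom.id F
  ε := 1
  ε_ne := one_ne_zero
  β u v := B u v
  N := Q
  φ := id
  μ c := c ^ 2
  add_left x y z := by simp
  smul_left c x y := by simp
  herm x y := by rw [RingHom.id_apply, one_mul, C.symm]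
  N_add := C.add
  N_smul := C.smul
  φ_zero := rfl
  N_self _ h := C.self_zero h

theorem glLin_mem (C : Space Q B) {g : GL ι F} (hg : g ∈ Cfsg.isometryGroup F Q) :
    glLin g ∈ (orthPolar C).iso :=
  ⟨fun u v => C.B_act hg u v, fun u => mem_iso.1 hg u⟩

/-- The isometry group acting. -/
noncomputable def orthHom (C : Space Q B) : ↥(Cfsg.isometryGroup F Q) →* (orthPolar C).iso :=
  ((glLin (ι := ι) (F := F)).comp (Cfsg.isometryGroup F Q).subtype).codRestrict _ fun g => glLin_mem C g.2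

theorem orthHom_apply (C : Space Q B) (g : ↥(Cfsg.isometryGroup F Q)) (x : ι → F) :
    (orthHom C g : (ι → F) ≃ₗ[F] (ι → F)) x = (g : GL ι F).val *ᵥ x := rfl

theorem orthHom_injective (C : Space Q B) : Function.Injective (orthHom C) := fun a b h =>
  Subtype.ext (gl_ext fun x => by rw [← orthHom_apply C, ← orthHom_apply C, h])

theorem orthHom_surjective (C : Space Q B) : Function.Surjective (orthHom C) := fun g => by
  obtain ⟨a, ha⟩ := glLin_surjective (g : (ι → F) ≃ₗ[F] (ι → F))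
  refine ⟨⟨a, mem_iso.2 fun x => ?_⟩, Subtype.ext ha⟩
  rw [← glLin_apply, ha]
  exact g.2.2 x

theorem orthHom_rI_fix (C : Space Q B) {v : ι → F} (hv : Q v ≠ 0) {x : ι → F} (hx : B v x = 0) :
    (orthHom C (rI C v hv) : (ι → F) ≃ₗ[F] (ι → F)) x = x := rGL_fix C hv hx

theorem orthHom_rI_apply (C : Space Q B) {v : ι → F} (hv : Q v ≠ 0) (x : ι → F) :
    (orthHom C (rI C v hv) : (ι → F) ≃ₗ[F] (ι → F)) x = x - ((Q v)⁻¹ * B v x) • v := rGL_act C hv x

variable {C : Space Q B} {m : ℕ} (D : Setup (orthPolar C) m)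

/-- An isometry fixing `e` up to scalars fixes the base chamber. -/
theorem smul_c₀_of_scalar {g : (orthPolar C).iso}
    (h : ∀ j, ∃ c : F, (g : (ι → F) ≃ₗ[F] (ι → F)) (D.e j) = c • D.e j) : g • D.c₀ = D.c₀ := by
  refine Ch.ext_of_le fun i => ?_
  rw [Ch.smul_W, D.c₀_W, Setup.E, Submodule.map_span, Submodule.span_le]
  rintro _ ⟨_, ⟨j, hj, rfl⟩, rfl⟩
  obtain ⟨c, hc⟩ := h j
  show (g : (ι → F) ≃ₗ[F] (ι → F)) (D.e j) ∈ _
  rw [hc]
  exact Submodule.smul_mem _ _ (Submodule.subset_span ⟨j, hj, rfl⟩)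

/-- An isometry fixing `f` up to scalars fixes the standard opposite chamber. -/
theorem smul_o₀_of_scalar {g : (orthPolar C).iso}
    (h : ∀ j, ∃ c : F, (g : (ι → F) ≃ₗ[F] (ι → F)) (D.f j) = c • D.f j) : g • D.o₀ = D.o₀ := by
  refine Ch.ext_of_le fun i => ?_
  rw [Ch.smul_W, show (D.o₀).W i = Ch.spanLT (F := F) (i := i) D.f from rfl, Ch.spanLT, Submodule.map_span,
    Submodule.span_le]
  rintro _ ⟨_, ⟨j, rfl⟩, rfl⟩
  obtain ⟨c, hc⟩ := h (j.castLE (Nat.le_of_lt_succ i.isLt))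
  show (g : (ι → F) ≃ₗ[F] (ι → F)) (D.f _) ∈ _
  rw [hc]
  exact Submodule.smul_mem _ _ (Submodule.subset_span ⟨j, rfl⟩)

theorem Q_sub (k : Fin m) (t : F) : Q (D.e k - t • D.f k) = -t := by
  rw [sub_eq_add_neg, ← neg_smul, C.add, C.smul, map_smul]
  have h1 : Q (D.e k) = 0 := D.frame.Ne k
  have h2 : Q (D.f k) = 0 := D.frame.Nf k
  have h3 : B (D.e k) (D.f k) = 1 := (D.frame.ef k k).trans (if_pos rfl)
  rw [h1, h2, h3]
  simp

/-- The reflection exchanging `e k` and `f k`. -/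
noncomputable def swapRefl (k : Fin m) (t : Fˣ) : ↥(Cfsg.isometryGroup F Q) :=
  rI C (D.e k - (t : F) • D.f k) (by rw [Q_sub D]; exact neg_ne_zero.2 t.ne_zero)

theorem swapRefl_e (k : Fin m) (t : Fˣ) :
    (orthHom C (swapRefl D k t) : (ι → F) ≃ₗ[F] (ι → F)) (D.e k) = (t : F) • D.f k := by
  rw [swapRefl, orthHom_rI_apply, Q_sub D]
  have h1 : B (D.e k) (D.e k) = 0 := D.frame.ee k k
  have h2 : B (D.f k) (D.e k) = 1 := (D.frame.fe k k).trans (if_pos rfl)
  rw [map_sub, map_smul, LinearMap.sub_apply, LinearMap.smul_apply, h1, h2]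
  simp

theorem swapRefl_f (k : Fin m) (t : Fˣ) :
    (orthHom C (swapRefl D k t) : (ι → F) ≃ₗ[F] (ι → F)) (D.f k) = (t : F)⁻¹ • D.e k := by
  rw [swapRefl, orthHom_rI_apply, Q_sub D]
  have h1 : B (D.f k) (D.f k) = 0 := D.frame.ff k k
  have h2 : B (D.e k) (D.f k) = 1 := (D.frame.ef k k).trans (if_pos rfl)
  rw [map_sub, map_smul, LinearMap.sub_apply, LinearMap.smul_apply, h1, h2]
  simp [smul_sub, smul_smul]

theorem swapRefl_other (k : Fin m) (t : Fˣ) {j : Fin m} (hj : j ≠ k) :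
    (orthHom C (swapRefl D k t) : (ι → F) ≃ₗ[F] (ι → F)) (D.e j) = D.e j ∧
      (orthHom C (swapRefl D k t) : (ι → F) ≃ₗ[F] (ι → F)) (D.f j) = D.f j := by
  have h1 : B (D.e k) (D.e j) = 0 := D.frame.ee k j
  have h2 : B (D.f k) (D.e j) = 0 := (D.frame.fe k j).trans (if_neg hj.symm)
  have h3 : B (D.e k) (D.f j) = 0 := (D.frame.ef k j).trans (if_neg hj.symm)
  have h4 : B (D.f k) (D.f j) = 0 := D.frame.ff k j
  refine ⟨orthHom_rI_fix C _ ?_, orthHom_rI_fix C _ ?_⟩ <;>
    simp [map_sub, map_smul, h1, h2, h3, h4]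

/-- An isometry exchanging the two standard chambers. -/
theorem exists_swap : ∃ g : ↥(Cfsg.isometryGroup F Q), orthHom C g • D.c₀ = D.o₀ := by
  have key : ∀ n, ∃ g : ↥(Cfsg.isometryGroup F Q), ∀ j : Fin m,
      (orthHom C g : (ι → F) ≃ₗ[F] (ι → F)) (D.e j) = if (j : ℕ) < n then D.f j else D.e j := by
    intro n
    induction n with
    | zero => exact ⟨1, fun j => by rw [map_one]; simp⟩
    | succ n ih =>
      obtain ⟨g, hg⟩ := ih
      by_cases hn : n < m
      · refine ⟨swapRefl D ⟨n, hn⟩ 1 * g, fun j => ?_⟩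
        rw [map_mul]
        show (orthHom C (swapRefl D ⟨n, hn⟩ 1) : (ι → F) ≃ₗ[F] (ι → F))
          ((orthHom C g : (ι → F) ≃ₗ[F] (ι → F)) (D.e j)) = _
        rw [hg]
        rcases lt_trichotomy (j : ℕ) n with h | h | h
        · rw [if_pos h, if_pos (by omega),
            (swapRefl_other D _ 1 (j := j) (fun e => by simp [Fin.ext_iff] at e; omega)).2]
        · obtain rfl : j = ⟨n, hn⟩ := Fin.ext h
          rw [if_neg (lt_irrefl _), if_pos (by simp), swapRefl_e, Units.val_one, one_smul]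
        · rw [if_neg (by omega), if_neg (by omega),
            (swapRefl_other D _ 1 (j := j) (fun e => by simp [Fin.ext_iff] at e; omega)).1]
      · exact ⟨g, fun j => by rw [hg, if_pos (by omega), if_pos (by omega)]⟩
  obtain ⟨g, hg⟩ := key m
  refine ⟨g, Ch.ext_of_le fun i => ?_⟩
  rw [Ch.smul_W, D.c₀_W, Setup.E, Submodule.map_span, Submodule.span_le]
  rintro _ ⟨_, ⟨j, hj, rfl⟩, rfl⟩
  show (orthHom C g : (ι → F) ≃ₗ[F] (ι → F)) (D.e j) ∈ _
  rw [hg, if_pos j.isLt]
  exact Ch.mem_spanLT hj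

variable [Fintype F] (h : Fintype.card F ≠ 2 ∨ Fintype.card ι ≠ 4)

include h in
theorem omega_h : (2 : F) ≠ 0 ∨ Fintype.card F ≠ 2 ∨ Fintype.card ι ≠ 4 := Or.inr h

include C h in
/-- In odd characteristic the unipotent isometries lie in `Ω`. -/
theorem mem_omega_of_pow (hn : 2 ≤ Fintype.card ι) (p : ℕ) [hp : Fact p.Prime] (hp2 : p ≠ 2)
    {g : ↥(Cfsg.isometryGroup F Q)} {r : ℕ} (hg : g ^ p ^ r = 1) : g ∈ Cfsg.Omega F Q := by
  have hsq := (Cfsg.Lib.Linear.SmallIso.omega_facts C hn (omega_h h)).1 g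
  obtain ⟨k, hk⟩ := (hp.out.odd_of_ne_two hp2).pow (n := r)
  have : g = ((g * g) ^ k)⁻¹ := by
    rw [eq_inv_iff_mul_eq_one, ← sq, ← pow_mul, ← pow_succ', ← hk, hg]
  rw [this]
  exact inv_mem (pow_mem hsq k)

include h in
/-- Representatives of the isometries modulo `Ω` in odd characteristic. -/
theorem exists_adjust_odd (h2 : (2 : F) ≠ 0) (hn : 2 ≤ Fintype.card ι) (k : Fin m)
    (w : ι → F) (hw : Q w ≠ 0) (g : ↥(Cfsg.isometryGroup F Q)) :
    ∃ (a : Bool) (s : ↥(Cfsg.isometryGroup F Q)), orthHom C s • D.c₀ = D.c₀ ∧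
      g * (if a then rI C w hw else 1) * s ∈ Cfsg.Omega F Q := by
  classical
  obtain ⟨hker, -, -⟩ := omega_odd C h2 hn
  have hchar : ringChar F ≠ 2 := fun hc => h2 (by
    haveI := ringChar.charP F
    have := CharP.cast_eq_zero F (ringChar F)
    rw [hc] at this
    exact_mod_cast this)
  obtain ⟨α, hα⟩ := FiniteField.exists_nonsquare hchar
  have hα0 : α ≠ 0 := fun h => hα (h ▸ ⟨0, (mul_zero 0).symm⟩)
  set t := swapRefl D k (Units.mk0 α hα0) * swapRefl D k 1 with ht
  have htfix : orthHom C t • D.c₀ = D.c₀ := smul_c₀_of_scalar D fun j => by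
    rw [ht, map_mul]
    rcases eq_or_ne j k with rfl | hj
    · refine ⟨α⁻¹, ?_⟩
      show (orthHom C (swapRefl D j _) : (ι → F) ≃ₗ[F] (ι → F))
        ((orthHom C (swapRefl D j 1) : (ι → F) ≃ₗ[F] (ι → F)) (D.e j)) = _
      rw [swapRefl_e, Units.val_one, one_smul, swapRefl_f]
      rfl
    · refine ⟨1, ?_⟩
      show (orthHom C (swapRefl D k _) : (ι → F) ≃ₗ[F] (ι → F))
        ((orthHom C (swapRefl D k 1) : (ι → F) ≃ₗ[F] (ι → F)) (D.e j)) = _
      rw [(swapRefl_other D k 1 hj).1, (swapRefl_other D k _ hj).1, one_smul]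
  have hdet : ∀ (v : ι → F) (hv : Q v ≠ 0), detSpin Q (rI C v hv) = (-1, if IsSquare (Q v) then -1 else 1) :=
    fun v hv => Prod.ext (det_rI C hv) (spin_rI C h2 hv)
  have htval : detSpin Q t = (1, -1) := by
    rw [ht, map_mul, swapRefl, swapRefl, hdet, hdet, Q_sub D, Q_sub D, Units.val_one, Units.val_mk0]
    refine Prod.ext (by simp) ?_
    show ((if IsSquare (-α) then (-1 : ℤˣ) else 1) * (if IsSquare (-1 : F) then (-1 : ℤˣ) else 1)) = -1
    by_cases h1 : IsSquare (-1 : F)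
    · rw [if_pos h1, if_neg (fun h => hα (by simpa using h1.mul h)), one_mul]
    · have h3 : IsSquare (-α) := by
        rw [← quadraticChar_one_iff_isSquare (neg_ne_zero.2 hα0), neg_eq_neg_one_mul, map_mul,
          quadraticChar_neg_one_iff_not_isSquare.2 h1, quadraticChar_neg_one_iff_not_isSquare.2 hα]
        norm_num
      rw [if_pos h3, if_neg h1, mul_one]
  have htgt : ∀ g : ↥(Cfsg.isometryGroup F Q), (detSpin Q g).1 = 1 ∨ (detSpin Q g).1 = -1 := fun g => by
    rcases det_sq C g.2 with e | e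
    · exact Or.inl (Units.ext e)
    · exact Or.inr (Units.ext (by rw [Units.val_neg, Units.val_one]; exact e))
  obtain ⟨a, ha⟩ : ∃ a : Bool, (detSpin Q (g * (if a then rI C w hw else 1))).1 = 1 := by
    rcases htgt g with e | e
    · exact ⟨false, by simpa using e⟩
    · refine ⟨true, ?_⟩
      rw [map_mul, Prod.fst_mul, e]
      show -1 * (detSpin Q (rI C w hw)).1 = 1
      rw [hdet]
      simp
  rcases Int.units_eq_one_or (detSpin Q (g * (if a then rI C w hw else 1))).2 with e | e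
  · refine ⟨a, 1, by rw [map_one, one_smul], ?_⟩
    show _ ∈ commutator _
    rw [hker, MonoidHom.mem_ker, mul_one]
    exact Prod.ext ha e
  · refine ⟨a, t, htfix, ?_⟩
    show _ ∈ commutator _
    rw [hker, MonoidHom.mem_ker, map_mul (detSpin Q) _ t, htval]
    exact Prod.ext (by rw [Prod.fst_mul, ha, one_mul]; rfl) (by rw [Prod.snd_mul, e]; exact Int.units_mul_self (-1))

/-- A second vector for the last step when the anisotropic part is non-zero. -/
theorem movable {z : ι → F} (hz0 : z ≠ 0) (hze : ∀ j, B z (D.e j) = 0) (hzf : ∀ j, B z (D.f j) = 0) :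
    D.Movable := fun k _ => by
  have h1 : Q (D.f k) = 0 := D.frame.Nf k
  have h2 : Q (D.e k) = 0 := D.frame.Ne k
  have hfe : ∀ j, B (D.f k) (D.e j) = if k = j then 1 else 0 := fun j => D.frame.fe k j
  have hef : ∀ j, B (D.e k) (D.f j) = if k = j then 1 else 0 := fun j => D.frame.ef k j
  have hee : ∀ j, B (D.e k) (D.e j) = 0 := fun j => D.frame.ee k j
  have hff : ∀ j, B (D.f k) (D.f j) = 0 := fun j => D.frame.ff k j
  refine ⟨D.f k + z - Q z • D.e k, fun hEq => hz0 ?_, ?_, ?_, fun j hj => ⟨?_, ?_⟩⟩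
  · have hQ : Q z = 0 := by
      have h3 := congrArg (fun v => B v (D.f k)) hEq
      simpa [hzf, hef, hff] using h3
    exact D.aniso z hze hzf hQ
  · show Q _ = 0
    rw [sub_eq_add_neg, ← neg_smul, C.add, C.add, C.smul, h1, h2, map_add, LinearMap.add_apply, map_smul,
      map_smul, C.symm (D.f k) z, hzf, hze, hfe, if_pos rfl]
    simp
  · show B _ _ = (1 : F)
    simp [hze, hee, hfe]
  · show B _ _ = (0 : F)
    simp [hze, hee, hfe, hj.symm]
  · show B _ _ = (0 : F)
    simp [hzf, hff, hef, hj.symm]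

end Cfsg.Lib.Linear.Steinberg
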