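import Cfsg.Agent.S2566
import Cfsg.Agent.Lib.Linear.Unipotent.Steinberg
import Cfsg.Agent.Lib.Linear.PSLSmall

/-!
# The exceptional group `PΩ⁺₄(2)`

It maps onto the symmetric group of degree three with kernel of odd order.
-/

set_option autoImplicit false
set_option linter.unusedSectionVars false

namespace Cfsg.Lib.Linear.Steinberg.PlusFour

open Cfsg Cfsg.Agent.S2566
open scoped Matrix commutatorElement

local notation "S3" => Equiv.Perm (Fin 3)

theorem comm_LR (s t : S3) : Commute (Lhom s) (Rhom t) :=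
  Subtype.ext (Units.ext (Lm_comm s t).1)

/-- The two factors together. -/
def both : S3 × S3 →* O4 := Lhom.noncommCoprod Rhom comm_LR

theorem both_injective : Function.Injective both := by
  rw [injective_iff_map_eq_one]
  rintro ⟨s, t⟩ h
  have h' : Lhom s = Rhom t⁻¹ := by
    rw [map_inv]
    exact eq_inv_of_mul_eq_one_left h
  obtain ⟨rfl, ht⟩ := (Lm_comm s t⁻¹).2.2 (by rw [← val_Lhom, ← val_Rhom, h'])
  rw [inv_eq_one] at ht
  rw [ht]; rfl

theorem card_O4 : Nat.card O4 = 72 := Cfsg.Agent.S2566.result.1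

theorem index_both : both.range.index = 2 := by
  have h := both.range.card_mul_index
  rw [card_O4, ← Nat.card_congr (MonoidHom.ofInjective both_injective).toEquiv, Nat.card_prod,
    Nat.card_perm, Nat.card_fin, show Nat.factorial 3 * Nat.factorial 3 = 36 from rfl] at h
  omega

theorem omega_le : Cfsg.Omega (ZMod 2) (Cfsg.quadFormPlus 2 (ZMod 2)) ≤ both.range := by
  haveI := Subgroup.normal_of_index_eq_two index_both
  show commutator O4 ≤ both.range
  rw [_root_.commutator_def, Subgroup.commutator_le]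
  intro a _ b _
  have h : ∀ x y : O4, x * y ∈ both.range ↔ y * x ∈ both.range := fun x y =>
    (Subgroup.normal_of_index_eq_two index_both).mem_comm_iff
  rw [commutatorElement_def]
  rw [Subgroup.mul_mem_iff_of_index_two index_both, Subgroup.mul_mem_iff_of_index_two index_both,
    Subgroup.mul_mem_iff_of_index_two index_both, Subgroup.inv_mem_iff, Subgroup.inv_mem_iff]
  by_cases ha : a ∈ both.range <;> by_cases hb : b ∈ both.range <;> simp [ha, hb]

/-- The six vectors of norm one. -/
abbrev Six : Type := {v : I4 → ZMod 2 // Cfsg.quadFormPlus 2 (ZMod 2) v = 1}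

/-- The action on the vectors of norm one. -/
def perm6 : O4 →* Equiv.Perm Six where
  toFun g :=
    { toFun := fun v => ⟨(g : GL I4 (ZMod 2)).val *ᵥ v.1, ((g.2 : ∀ u w : I4 → ZMod 2, _) v.1 v.1).trans v.2⟩
      invFun := fun v => ⟨(g⁻¹ : O4).1.val *ᵥ v.1, (((g⁻¹ : O4).2 : ∀ u w : I4 → ZMod 2, _) v.1 v.1).trans v.2⟩
      left_inv := fun v => Subtype.ext (by
        show (g⁻¹ : O4).1.val *ᵥ ((g : GL I4 (ZMod 2)).val *ᵥ v.1) = v.1
        rw [Matrix.mulVec_mulVec, ← Units.val_mul, Subgroup.coe_inv, inv_mul_cancel, Units.val_one, Matrix.one_mulVec])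
      right_inv := fun v => Subtype.ext (by
        show (g : GL I4 (ZMod 2)).val *ᵥ ((g⁻¹ : O4).1.val *ᵥ v.1) = v.1
        rw [Matrix.mulVec_mulVec, ← Units.val_mul, Subgroup.coe_inv, mul_inv_cancel, Units.val_one, Matrix.one_mulVec]) }
  map_one' := Equiv.ext fun v => Subtype.ext (Matrix.one_mulVec v.1)
  map_mul' a b := Equiv.ext fun v => Subtype.ext (Matrix.mulVec_mulVec v.1 a.1.val b.1.val).symm

set_option maxRecDepth 8000 in
set_option maxHeartbeats 4000000 in
theorem sign_Rhom : ∀ t : S3, t * t = 1 → t ≠ 1 → Equiv.Perm.sign (perm6 (Rhom t)) = -1 := by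
  decide +kernel

local notation "Ω" => Cfsg.Omega (ZMod 2) (Cfsg.quadFormPlus 2 (ZMod 2))

/-- The first coordinate. -/
noncomputable def proj : ↥Ω →* S3 :=
  (MonoidHom.fst S3 S3).comp ((MonoidHom.ofInjective both_injective).symm.toMonoidHom.comp (Subgroup.inclusion omega_le))

theorem proj_spec {x : ↥Ω} {s t : S3} (h : (x : O4) = Lhom s * Rhom t) : proj x = s := by
  show ((MonoidHom.ofInjective both_injective).symm (Subgroup.inclusion omega_le x)).1 = s
  rw [show (MonoidHom.ofInjective both_injective).symm (Subgroup.inclusion omega_le x) = (s, t) from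
    (MonoidHom.ofInjective both_injective).symm_apply_eq.2 (Subtype.ext h)]

theorem proj_surjective : Function.Surjective proj := fun s => by
  have hc : ⁅Lhom s, swapT⁆ = Lhom s * Rhom s⁻¹ := by
    have e : swapT * Lhom s⁻¹ = Rhom s⁻¹ * swapT := Subtype.ext (Units.ext (Lm_comm s⁻¹ 1).2.1)
    rw [commutatorElement_def, ← map_inv, mul_assoc (Lhom s), e, mul_assoc, mul_assoc, mul_inv_cancel, mul_one]
  exact ⟨⟨_, Subgroup.commutator_mem_commutator (Subgroup.mem_top _) (Subgroup.mem_top _)⟩, proj_spec hc⟩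

theorem proj_odd (x : ↥Ω) (hx : proj x = 1) (hx2 : x * x = 1) : x = 1 := by
  obtain ⟨⟨s, t⟩, hst⟩ := omega_le x.2
  have hst' : (x : O4) = Lhom s * Rhom t := hst.symm
  obtain rfl : s = 1 := (proj_spec hst').symm.trans hx
  rw [map_one, one_mul] at hst'
  have ht : t * t = 1 := by
    have h := congrArg (fun y : ↥Ω => (y : O4)) hx2
    simp only [Subgroup.coe_mul, OneMemClass.coe_one, hst', ← map_mul] at h
    exact congrArg Prod.snd (both_injective (a₁ := ((1 : S3), t * t)) (a₂ := 1) (by
      rw [map_one]; show Lhom 1 * Rhom (t * t) = 1; rw [map_one, one_mul, h]))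
  by_contra hne
  have h1 : (Equiv.Perm.sign.comp perm6) (x : O4) = 1 :=
    MonoidHom.mem_ker.1 (Abelianization.commutator_subset_ker (Equiv.Perm.sign.comp perm6) x.2)
  rw [MonoidHom.comp_apply] at h1
  rw [hst', sign_Rhom t ht (fun e => hne (Subtype.ext (by rw [hst', e, map_one]; rfl)))] at h1
  exact absurd h1 (by decide)

theorem center_le : Subgroup.center ↥Ω ≤ proj.ker := fun z hz => by
  rw [MonoidHom.mem_ker]
  have h : ∀ s : S3, proj z * s = s * proj z := fun s => by
    obtain ⟨y, rfl⟩ := proj_surjective s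
    rw [← map_mul, ← map_mul, Subgroup.mem_center_iff.1 hz y]
  have hS : ∀ u : S3, (∀ s : S3, u * s = s * u) → u = 1 := by decide
  exact hS _ h

/-- The character. -/
theorem exists_char : ∃ χ : Cfsg.POmega (ZMod 2) (Cfsg.quadFormPlus 2 (ZMod 2)) → ℂ,
    Cfsg.IsIrrCharacter _ χ ∧
      χ 1 = ((2 ^ (Nat.card (Cfsg.POmega (ZMod 2) (Cfsg.quadFormPlus 2 (ZMod 2)))).factorization 2 : ℕ) : ℂ) := by
  haveI : Fact (Nat.Prime 2) := ⟨Nat.prime_two⟩
  set φ := QuotientGroup.lift (Subgroup.center ↥Ω) proj center_le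
  have hsurj : Function.Surjective φ := fun s => by
    obtain ⟨y, rfl⟩ := proj_surjective s
    exact ⟨QuotientGroup.mk y, rfl⟩
  have hodd : ¬ 2 ∣ Nat.card φ.ker := fun h => by
    obtain ⟨⟨z, hz⟩, hz2⟩ := exists_prime_orderOf_dvd_card' 2 h
    have hdvd : 2 ∣ Nat.card proj.ker := by
      obtain ⟨y, rfl⟩ := QuotientGroup.mk_surjective z
      have hy : y ∈ proj.ker := hz
      have h1 : 2 ∣ orderOf y := by
        have h3 := orderOf_map_dvd (QuotientGroup.mk' (Subgroup.center ↥Ω)) y
        rw [QuotientGroup.mk'_apply, (Subgroup.orderOf_mk _ hz).symm.trans hz2] at h3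
        exact h3
      exact h1.trans (by rw [← Subgroup.orderOf_mk y hy]; exact orderOf_dvd_natCard _)
    obtain ⟨x, hx⟩ := exists_prime_orderOf_dvd_card' 2 hdvd
    have := proj_odd x.1 x.2 (by
      rw [← sq]
      have h2 := pow_orderOf_eq_one (x : ↥Ω)
      rwa [Subgroup.orderOf_coe, hx] at h2)
    rw [orderOf_eq_one_iff.2 (Subtype.ext this)] at hx
    exact absurd hx (by omega)
  obtain ⟨e⟩ := Cfsg.Lib.Linear.Two.sl_equiv_perm (F := ZMod 2) (ZMod.card 2)
  let mkP : Matrix.SpecialLinearGroup (Fin 2) (ZMod 2) →* Matrix.ProjectiveSpecialLinearGroup (Fin 2) (ZMod 2) :=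
    QuotientGroup.mk' _
  obtain ⟨χ, hχ, hdeg⟩ := Cfsg.Lib.Linear.Unipotent.exists_steinberg_PSL (F := ZMod 2) 2 (n := 2) (by omega)
  refine ⟨_, hχ.comp_surjective ((mkP.comp e.symm.toMonoidHom).comp φ)
    (((QuotientGroup.mk'_surjective _).comp e.symm.surjective).comp hsurj), ?_⟩
  show χ ((mkP.comp e.symm.toMonoidHom).comp φ 1) = _
  rw [map_one, hdeg, Cfsg.Lib.Linear.Unipotent.factorization_card_PSL 2 (by omega)]
  have h6 : Nat.card S3 = 6 := by rw [Nat.card_perm, Nat.card_fin]; rfl
  have hcard := φ.ker.card_mul_index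
  rw [Subgroup.index_ker, MonoidHom.range_eq_top.2 hsurj, Subgroup.card_top, h6] at hcard
  rw [ZMod.card, ← hcard, Nat.factorization_mul Nat.card_pos.ne' (by norm_num), Finsupp.add_apply,
    Nat.factorization_eq_zero_of_not_dvd hodd, zero_add]
  have h62 : Nat.factorization 6 2 = 1 := by
    rw [show (6 : ℕ) = 2 * 3 from rfl, Nat.factorization_mul (by norm_num) (by norm_num), Finsupp.add_apply,
      Nat.Prime.factorization Nat.prime_two, Nat.Prime.factorization Nat.prime_three]
    simp
  rw [h62]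

end Cfsg.Lib.Linear.Steinberg.PlusFour
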